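import Cfsg.Agent.Lib.Recog.USylow.Embed
import Cfsg.Agent.Lib.OddLocal.PLengthOne

/-!
# Groups with a Sylow 2-subgroup normal modulo the odd core
-/

set_option autoImplicit false

namespace CfsgLib.USylow

open Subgroup
open CfsgLib.Classical.TwoType

universe u

variable {H : Type u} [Group H] [Finite H]

/-- `H = O(H) N(T)` for a Sylow 2-subgroup `T`. -/
def Closed (H : Type u) [Group H] : Prop :=
  ∀ T : Sylow 2 H, Cfsg.oddCore H ⊔ normalizer ((T : Subgroup H) : Set H) = ⊤

theorem closed_of_normal (T : Sylow 2 H) (h : (Cfsg.oddCore H ⊔ (T : Subgroup H)).Normal) :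
    Closed H := by
  haveI : Fact (Nat.Prime 2) := ⟨Nat.prime_two⟩
  haveI := h
  have h0 : Cfsg.oddCore H ⊔ normalizer ((T : Subgroup H) : Set H) = ⊤ :=
    top_le_iff.1 (le_trans (Sylow.normalizer_sup_eq_top' T le_sup_right).ge
      (sup_le le_sup_right (sup_le le_sup_left (le_normalizer.trans le_sup_right))))
  intro T'
  obtain ⟨g, rfl⟩ := MulAction.exists_smul_eq H T T'
  refine top_le_iff.1 fun x _ => ?_
  have hg : g⁻¹ * x * g ∈ Cfsg.oddCore H ⊔ normalizer ((T : Subgroup H) : Set H) := h0 ▸ mem_top _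
  rw [← SetLike.mem_coe, Subgroup.normal_mul] at hg
  obtain ⟨o, ho, k, hk, e⟩ := hg
  simp only at e
  rw [show x = (g * o * g⁻¹) * (g * k * g⁻¹) by
    rw [show (g * o * g⁻¹) * (g * k * g⁻¹) = g * (o * k) * g⁻¹ by group, e]; group]
  refine mul_mem (mem_sup_left ((inferInstance : (Cfsg.oddCore H).Normal).conj_mem o ho g))
    (mem_sup_right ?_)
  rw [SetLike.mem_coe, mem_normalizer_iff_map_conj_eq] at hk
  rw [mem_normalizer_iff_map_conj_eq]
  have hT : ((g • T : Sylow 2 H) : Subgroup H) = (T : Subgroup H).map (MulAut.conj g).toMonoidHom := rfl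
  rw [hT, Subgroup.map_map]
  conv_rhs => rw [← hk, Subgroup.map_map]
  congr 1
  ext y
  simp [MulAut.conj_apply, mul_assoc]

theorem Closed.normal_of_core (h : Closed H) (hO : Cfsg.oddCore H = ⊥) (T : Sylow 2 H) :
    (T : Subgroup H).Normal := by
  have := h T
  rw [hO, bot_sup_eq] at this
  exact normalizer_eq_top_iff.1 this

theorem oddCore_quot : Cfsg.oddCore (H ⧸ Cfsg.oddCore H) = ⊥ :=
  CfsgLib.Core.pPrimeCore_quotient_pPrimeCore 2 H

theorem closed_of_quotient (T : Sylow 2 H)
    (h : ((T : Subgroup H).map (QuotientGroup.mk' (Cfsg.oddCore H))).Normal) : Closed H := by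
  refine closed_of_normal T ?_
  have := h.comap (QuotientGroup.mk' (Cfsg.oddCore H))
  rwa [Subgroup.comap_map_eq, QuotientGroup.ker_mk', sup_comm] at this

theorem solvable_of_closed (h : Closed H) : Group.IsSolvable H := by
  haveI : Fact (Nat.Prime 2) := ⟨Nat.prime_two⟩
  obtain ⟨T⟩ := (inferInstance : Nonempty (Sylow 2 H))
  set N := normalizer ((T : Subgroup H) : Set H)
  haveI : ((T : Subgroup H).subgroupOf N).Normal := Subgroup.normal_in_normalizer
  haveI : Group.IsSolvable N := by
    haveI : Group.IsNilpotent ↥(T : Subgroup H) := T.2.isNilpotent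
    haveI : Group.IsSolvable (N ⧸ (T : Subgroup H).subgroupOf N) := Cfsg.Agent.S0205.result (by
      rw [← Subgroup.index_eq_card]
      exact Nat.not_even_iff_odd.1 fun he => T.not_dvd_index ((even_iff_two_dvd.1 he).trans
        (Dvd.intro _ (Subgroup.relIndex_mul_index (le_normalizer (H := (T : Subgroup H)))))))
    refine Group.isSolvable_of_ker_le_range (Subgroup.inclusion (le_normalizer (H := (T : Subgroup H))))
      (QuotientGroup.mk' ((T : Subgroup H).subgroupOf N)) ?_
    intro x hx
    rw [QuotientGroup.ker_mk', mem_subgroupOf] at hx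
    exact ⟨⟨x, hx⟩, rfl⟩
  haveI : Group.IsSolvable (Cfsg.oddCore H) := Cfsg.Agent.S0205.result (CfsgLib.ZStar.odd_card_oddCore H)
  let π := QuotientGroup.mk' (Cfsg.oddCore H)
  haveI : Group.IsSolvable (H ⧸ Cfsg.oddCore H) := by
    refine Group.isSolvable_of_surjective (f := π.comp N.subtype) fun q => ?_
    obtain ⟨x, rfl⟩ := QuotientGroup.mk'_surjective _ q
    have hx : x ∈ Cfsg.oddCore H ⊔ N := h T ▸ mem_top x
    rw [← SetLike.mem_coe, Subgroup.normal_mul] at hx
    obtain ⟨o, ho, k, hk, rfl⟩ := hx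
    exact ⟨⟨k, hk⟩, by rw [map_mul, show π o = 1 from (QuotientGroup.eq_one_iff o).2 ho, one_mul]; rfl⟩
  exact Group.isSolvable_of_ker_le_range (Cfsg.oddCore H).subtype π
    (by rw [QuotientGroup.ker_mk', Subgroup.range_subtype])

theorem pLength_of_closed (h : Closed H) : Cfsg.PLengthLE 2 1 H := by
  haveI : Fact (Nat.Prime 2) := ⟨Nat.prime_two⟩
  obtain ⟨T⟩ := (inferInstance : Nonempty (Sylow 2 H))
  refine CfsgLib.OddLocal.PLengthOne.pLengthLE_one T ?_
  show (Cfsg.oddCore H ⊔ (T : Subgroup H)).Normal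
  rw [← normalizer_eq_top_iff, eq_top_iff, ← h T]
  refine sup_le (le_sup_left.trans le_normalizer) fun n hn => ?_
  rw [mem_normalizer_iff_map_conj_eq, Subgroup.map_sup, mem_normalizer_iff_map_conj_eq.1 hn,
    mem_normalizer_iff_map_conj_eq.1 (normalizer_eq_top (H := Cfsg.oddCore H) ▸ mem_top n)]

variable {G : Type u} [Group G] [Finite G]

/-- The odd core of a normal subgroup lies in the odd core. -/
theorem oddCore_map_le (K : Subgroup G) [K.Normal] :
    (Cfsg.oddCore K).map K.subtype ≤ Cfsg.oddCore G :=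
  CfsgLib.ZStar.le_oddCore inferInstance (by
    rw [Subgroup.card_map_of_injective K.subtype_injective]
    exact CfsgLib.ZStar.odd_card_oddCore K)

theorem oddCore_eq_bot_of_normal (hO : Cfsg.oddCore G = ⊥) (K : Subgroup G) [K.Normal] :
    Cfsg.oddCore K = ⊥ := by
  have := oddCore_map_le K
  rw [hO, le_bot_iff, Subgroup.map_eq_bot_iff_of_injective _ K.subtype_injective] at this
  exact this

/-- A closed normal subgroup containing a Sylow 2-subgroup makes it normal when `O(G) = 1`. -/
theorem normal_of_closed_normal (hO : Cfsg.oddCore G = ⊥) (K : Subgroup G) [K.Normal] (S : Sylow 2 G)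
    (hS : (S : Subgroup G) ≤ K) (h : Closed K) : (S : Subgroup G).Normal := by
  haveI : Fact (Nat.Prime 2) := ⟨Nat.prime_two⟩
  have hn := h.normal_of_core (oddCore_eq_bot_of_normal hO K) (S.subtype hS)
  haveI := (S.subtype hS).characteristic_of_normal hn
  have h2 : (((S.subtype hS : Sylow 2 K) : Subgroup K).map K.subtype).Normal := inferInstance
  rwa [Sylow.coe_subtype, subgroupOf_map_subtype, inf_eq_left.2 hS] at h2

/-- A closed involution centraliser lies in its core times the normaliser of a 2-subgroup. -/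
theorem split_of_closed {t : G} (h : Closed ↥(centralizer ({t} : Set G)))
    (T : Sylow 2 ↥(centralizer ({t} : Set G))) :
    centralizer ({t} : Set G) ≤ oC t ⊔
      normalizer (((T : Subgroup ↥(centralizer ({t} : Set G))).map (centralizer ({t} : Set G)).subtype :
        Subgroup G) : Set G) := by
  intro x hx
  have h1 : (⟨x, hx⟩ : centralizer ({t} : Set G)) ∈ Cfsg.oddCore ↥(centralizer ({t} : Set G)) ⊔
      normalizer ((T : Subgroup ↥(centralizer ({t} : Set G))) : Set ↥(centralizer ({t} : Set G))) :=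
    (h T).symm ▸ mem_top _
  have h2 := Subgroup.mem_map_of_mem (centralizer ({t} : Set G)).subtype h1
  rw [Subgroup.map_sup] at h2
  exact sup_le_sup_left (Subgroup.le_normalizer_map _) _ h2

end CfsgLib.USylow
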