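import Cfsg.Agent.Lib.Recog.USylow.CentralCase
import Cfsg.Agent.Lib.Bender.Gen.Final
import Cfsg.Agent.Lib.Classical.SmallOrtho.UFourTwo
import Cfsg.Agent.Lib.Classical.Unitary.MatrixStructure

/-!
# Groups with a Sylow 2-subgroup of the type of `PSU₃(2ⁿ)`

Induction on the order: with `O(G) = 1`, a central involution gives a normal Sylow subgroup, otherwise the
involution centralisers are `O(C) N(S)` by induction, so either `Z(S)` is normal or a strongly embedded
subgroup exists and Bender's theorem leaves `PSU₃(2ⁿ)` only.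
-/

set_option autoImplicit false

namespace CfsgLib.USylow

open Subgroup
open CfsgLib.Classical.TwoType

universe u

/-- The quotient by the odd core has a normal subgroup of odd index isomorphic to `PSU₃(2ⁿ)`. -/
def PSUPart (G : Type u) [Group G] (n : ℕ) : Prop :=
  ∃ N : Subgroup (G ⧸ Cfsg.oddCore G), N.Normal ∧ Odd N.index ∧
    ∃ (F : Type) (_ : Field F) (_ : Fintype F), Fintype.card F = (2 ^ n) ^ 2 ∧
      Nonempty (↥N ≃* Cfsg.PSU 3 F (2 ^ n))

theorem psuPart_of_equiv {G : Type u} [Group G] [Finite G] {Q : Type u} [Group Q] [Finite Q] {n : ℕ}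
    (e : Q ≃* G ⧸ Cfsg.oddCore G) (L : Subgroup Q) (hL : L.Normal) (hodd : Odd L.index)
    (h : ∃ (F : Type) (_ : Field F) (_ : Fintype F), Fintype.card F = (2 ^ n) ^ 2 ∧
      Nonempty (↥L ≃* Cfsg.PSU 3 F (2 ^ n))) : PSUPart G n := by
  refine ⟨L.map e.toMonoidHom, hL.map _ e.surjective, ?_, ?_⟩
  · show Odd (L.map (e : Q →* G ⧸ Cfsg.oddCore G)).index
    rwa [Subgroup.index_map_equiv]
  · obtain ⟨F, i1, i2, hF, ⟨f⟩⟩ := h
    exact ⟨F, i1, i2, hF, ⟨(L.equivMapOfInjective e.toMonoidHom e.injective).symm.trans f⟩⟩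

/-- A central involution excludes the unitary group. -/
theorem closed_of_central_inv {K : Type u} [Group K] [Finite K] {n : ℕ} (hn : 3 ≤ n)
    (h : Closed K ∨ PSUPart K n) {c : K} (hc : c ∈ center K) (hc2 : orderOf c = 2) : Closed K := by
  refine h.resolve_right ?_
  rintro ⟨N, hN, hodd, F, i1, i2, hF, ⟨e⟩⟩
  set π := QuotientGroup.mk' (Cfsg.oddCore K) with hπ
  have hne : π c ≠ 1 := fun h1 => by
    have h2 : c ∈ Cfsg.oddCore K := (QuotientGroup.eq_one_iff c).1 h1
    have := Subgroup.orderOf_dvd_natCard _ h2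
    rw [hc2] at this
    exact Nat.not_even_iff_odd.2 (CfsgLib.ZStar.odd_card_oddCore K) (even_iff_two_dvd.2 this)
  have hsq : π c * π c = 1 := by rw [← map_mul, CfsgLib.Signalizer.involution_sq hc2, map_one]
  have hcN : π c ∈ N := by
    haveI := hN
    have h1 := N.pow_index_mem (π c)
    obtain ⟨i, hi⟩ := hodd
    rwa [hi, pow_succ, pow_mul, pow_two, hsq, one_pow, one_mul] at h1
  have hcc : e ⟨π c, hcN⟩ ∈ center (Cfsg.PSU 3 F (2 ^ n)) := mem_center_iff.2 fun g => by
    obtain ⟨g, rfl⟩ := e.surjective g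
    rw [← map_mul, ← map_mul]
    congr 1
    refine Subtype.ext ?_
    obtain ⟨y, hy⟩ := QuotientGroup.mk'_surjective _ (g : K ⧸ Cfsg.oddCore K)
    show (g : K ⧸ Cfsg.oddCore K) * π c = π c * g
    rw [← hy, hπ, ← map_mul, ← map_mul, mem_center_iff.1 hc y]
  haveI : IsSimpleGroup (Cfsg.PSU 3 F (2 ^ n)) := CfsgLib.Classical.Herm.isSimpleGroup_PSU' hF 3 le_rfl
    (fun _ h => by
      have : 2 ^ 3 ≤ 2 ^ n := Nat.pow_le_pow_right two_pos hn
      omega)
  rcases IsSimpleGroup.eq_bot_or_eq_top_of_normal (center (Cfsg.PSU 3 F (2 ^ n))) inferInstance with hb | ht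
  · rw [hb, mem_bot, ← map_one e, e.injective.eq_iff] at hcc
    exact hne (congrArg Subtype.val hcc)
  · obtain ⟨P⟩ := (inferInstance : Nonempty (Sylow 2 (Cfsg.PSU 3 F (2 ^ n))))
    have hU := uType_psu (by omega) hF P
    have htop : center ↥(P : Subgroup (Cfsg.PSU 3 F (2 ^ n))) = ⊤ := eq_top_iff.2 fun y _ =>
      mem_center_iff.2 fun z => Subtype.ext (mem_center_iff.1
        (ht.symm ▸ mem_top _ : (y : Cfsg.PSU 3 F (2 ^ n)) ∈ center (Cfsg.PSU 3 F (2 ^ n))) (z : Cfsg.PSU 3 F (2 ^ n)))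
    have := hU.card_center
    rw [htop, Subgroup.card_top, hU.card] at this
    have h3 := Nat.pow_lt_pow_right (Nat.one_lt_two_pow (show n ≠ 0 by omega)) (show 1 < 3 by norm_num)
    rw [pow_one] at h3
    omega

variable {G : Type u} [Group G] [Finite G] {n : ℕ} {S : Sylow 2 G}

theorem exists_two_involutions (hT : UType ↥(S : Subgroup G) n) (hn : 2 ≤ n) :
    ∃ a ∈ Zs S, ∃ b ∈ Zs S, orderOf a = 2 ∧ orderOf b = 2 ∧ a ≠ b := by
  haveI : Fact (Nat.Prime 2) := ⟨Nat.prime_two⟩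
  classical
  haveI := Fintype.ofFinite (Zs S)
  have hcard : 2 < Fintype.card (Zs S) := by
    have := card_Zs hT
    rw [Nat.card_eq_fintype_card] at this
    rw [this]
    calc 2 < 2 ^ 2 := by norm_num
      _ ≤ 2 ^ n := Nat.pow_le_pow_right two_pos hn
  obtain ⟨x, y, z, hxy, hxz, hyz⟩ := Fintype.two_lt_card_iff.1 hcard
  have hord : ∀ a : Zs S, a ≠ 1 → orderOf (a : G) = 2 := fun a ha =>
    orderOf_eq_prime (by rw [pow_two]; exact ((mem_Zs hT).1 a.2).2) fun h => ha (Subtype.ext h)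
  obtain ⟨a, b, ha, hb, hab⟩ : ∃ a b : Zs S, a ≠ 1 ∧ b ≠ 1 ∧ a ≠ b := by
    by_cases hx : x = 1
    · exact ⟨y, z, fun h => hxy (hx.trans h.symm), fun h => hxz (hx.trans h.symm), hyz⟩
    by_cases hy : y = 1
    · exact ⟨x, z, hx, fun h => hyz (hy.trans h.symm), hxz⟩
    exact ⟨x, y, hx, hy, hxy⟩
  exact ⟨a, a.2, b, b.2, hord a ha, hord b hb, fun h => hab (Subtype.ext h)⟩

/-- With a strongly embedded subgroup the group is an odd extension of `PSU₃(2ⁿ)`. -/
theorem unitary_of_stronglyEmbedded (hT : UType ↥(S : Subgroup G) n) (hn : 2 ≤ n)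
    (hO : Cfsg.oddCore G = ⊥) {M : Subgroup G} (hM : Cfsg.IsStronglyEmbedded M)
    (hSM : (S : Subgroup G) ≤ M) :
    ∃ L : Subgroup G, L.Normal ∧ Odd L.index ∧ ∃ (F : Type) (_ : Field F) (_ : Fintype F),
      Fintype.card F = (2 ^ n) ^ 2 ∧ Nonempty (↥L ≃* Cfsg.PSU 3 F (2 ^ n)) := by
  haveI : Fact (Nat.Prime 2) := ⟨Nat.prime_two⟩
  obtain ⟨a, ha, b, hb, ha2, hb2, hne⟩ := exists_two_involutions hT (by omega)
  have hK : M.normalCore = ⊥ := le_bot_iff.1 (hO ▸ CfsgLib.Bender.normalCore_le_oddCore hM)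
  have hfam := CfsgLib.Bender.closure_family CfsgLib.Bender.benderGen.{u} hM
    ⟨a, hSM (Zs_le S ha), b, hSM (Zs_le S hb), ha2, hb2, hne,
      mem_centralizer_iff.1 (le_centralizer_Zs S (Zs_le S hb)) a ha⟩ hK
  set L := Cfsg.pElementClosure 2 (⊤ : Subgroup G) with hLdef
  have hLn : L.Normal := by
    refine ⟨fun x hx g => ?_⟩
    have h : L.map (MulAut.conj g).toMonoidHom ≤ L := by
      rw [hLdef, Cfsg.pElementClosure, MonoidHom.map_closure, closure_le]
      rintro _ ⟨y, ⟨-, k, hk⟩, rfl⟩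
      exact subset_closure ⟨mem_top _, k, (CfsgLib.Signalizer.orderOf_conj g y).trans hk⟩
    exact h ⟨x, hx, rfl⟩
  have hSL : (S : Subgroup G) ≤ L := fun x hx => subset_closure ⟨mem_top x, by
    obtain ⟨k, hk⟩ := IsPGroup.iff_orderOf.1 S.2 ⟨x, hx⟩
    exact ⟨k, by rw [← hk, Subgroup.orderOf_mk]⟩⟩
  have hLodd : Odd L.index := Nat.not_even_iff_odd.1 fun he =>
    S.not_dvd_index ((even_iff_two_dvd.1 he).trans (Subgroup.index_dvd_of_le hSL))
  let T : Sylow 2 L := S.subtype hSL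
  have hTT : UType ↥(T : Subgroup L) n := hT.of_equiv (Subgroup.subgroupOfEquivOfLe hSL)
  obtain ⟨x, hx⟩ : ∃ x : T, x * x ≠ 1 := by
    obtain ⟨y, hy, hyy⟩ := exists_root hT (by omega) ha
    exact ⟨⟨⟨y, hSL hy⟩, hy⟩, fun e => CfsgLib.Signalizer.involution_ne_one ha2
      (hyy.symm.trans (congrArg (fun z : T => ((z : L) : G)) e))⟩
  rcases hfam with ⟨F, i1, i2, hchar, -, ⟨e⟩⟩ | ⟨F, i1, i2, q, hq, hq4, hF, ⟨e⟩⟩ | hsz
  · exfalso
    have h4 : (e (x : L)) ^ 4 = 1 := by
      have hxx : x * x * (x * x) = 1 := (hTT.center_iff _).1 (hTT.sq_mem x)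
      rw [← map_pow, ← map_one e, e.injective.eq_iff]
      have := congrArg (fun z : T => (z : L)) hxx
      simpa [pow_succ, mul_assoc] using this
    have := sl_two_sq_one _ h4
    rw [← map_mul, ← map_one e, e.injective.eq_iff] at this
    exact hx (Subtype.ext this)
  · obtain ⟨m, rfl⟩ : ∃ m, q = 2 ^ m := by
      obtain ⟨p, k, hp, -, hk⟩ := isPrimePow_nat_iff (Fintype.card F) |>.1 (FiniteField.isPrimePow_card F)
      have h2 : p = 2 := by
        have hd : 2 ∣ p ^ k := by rw [hk, hF]; exact dvd_pow (even_iff_two_dvd.1 hq) two_ne_zero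
        exact ((Nat.prime_dvd_prime_iff_eq Nat.prime_two hp).1 (Nat.prime_two.dvd_of_dvd_pow hd)).symm
      subst h2
      have hd : q ∣ 2 ^ k := by rw [hk, hF]; exact dvd_pow_self q two_ne_zero
      obtain ⟨m, -, hm⟩ := (Nat.dvd_prime_pow Nat.prime_two).1 hd
      exact ⟨m, hm⟩
    have hm : 1 ≤ m := Nat.one_le_iff_ne_zero.2 fun h => by simp [h] at hq4
    let P : Sylow 2 (Cfsg.PSU 3 F (2 ^ m)) := T.mapSurjective (f := e.toMonoidHom) e.surjective
    have hU := (uType_psu hm hF P).of_equiv ((T : Subgroup L).equivMapOfInjective e.toMonoidHom e.injective)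
    have h3 : (2 ^ n) ^ 3 = (2 ^ m) ^ 3 := hTT.card.symm.trans hU.card
    rw [← pow_mul, ← pow_mul] at h3
    have hnm : n = m := by have := Nat.pow_right_injective le_rfl h3; omega
    subst hnm
    exact ⟨L, hLn, hLodd, F, i1, i2, hF, ⟨e⟩⟩
  · exfalso
    obtain ⟨k, hk1, hk2, hk3⟩ := suzuki_shape hsz T
    have hk : k = 2 ^ n := by
      rw [← hk3, ← hTT.card_center]
      exact Nat.card_congr ((Equiv.refl _).subtypeEquiv fun x => (hTT.center_iff x).symm)
    rw [hk, hTT.card] at hk2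
    have := Nat.pow_lt_pow_right (Nat.one_lt_two_pow (show n ≠ 0 by omega)) (show 2 < 3 by norm_num)
    omega

/-- The theorem. -/
theorem closed_or_psuPart (n : ℕ) (hn : 3 ≤ n) :
    ∀ (k : ℕ) (G : Type u) [Group G] [Finite G], Nat.card G = k → ∀ S : Sylow 2 G,
      UType ↥(S : Subgroup G) n → Closed G ∨ PSUPart G n := by
  intro k
  induction k using Nat.strong_induction_on with
  | _ k ih =>
  intro G _ _ hk S hT
  haveI : Fact (Nat.Prime 2) := ⟨Nat.prime_two⟩
  by_cases hO : Cfsg.oddCore G = ⊥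
  swap
  · have hlt : Nat.card (G ⧸ Cfsg.oddCore G) < k := by
      subst hk
      rw [Subgroup.card_eq_card_quotient_mul_card_subgroup (Cfsg.oddCore G)]
      exact (Nat.lt_mul_iff_one_lt_right Nat.card_pos).2 (Subgroup.one_lt_card_iff_ne_bot _ |>.2 hO)
    set π := QuotientGroup.mk' (Cfsg.oddCore G)
    let S' : Sylow 2 (G ⧸ Cfsg.oddCore G) := S.mapSurjective (QuotientGroup.mk'_surjective _)
    have hinj : Function.Injective (π.comp (S : Subgroup G).subtype) := by
      rw [injective_iff_map_eq_one]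
      intro a ha
      obtain ⟨j, hj⟩ := S.2.exists_card_eq
      have hbot : Cfsg.oddCore G ⊓ (S : Subgroup G) = ⊥ := inf_eq_bot_of_coprime (by
        rw [hj]; exact (CfsgLib.ZStar.odd_card_oddCore G).coprime_two_right.pow_right j)
      have hmem : (a : G) ∈ Cfsg.oddCore G ⊓ (S : Subgroup G) := ⟨(QuotientGroup.eq_one_iff _).1 ha, a.2⟩
      rw [hbot] at hmem
      exact Subtype.ext hmem
    have e : ↥(S' : Subgroup (G ⧸ Cfsg.oddCore G)) ≃* ↥(S : Subgroup G) :=
      ((MonoidHom.ofInjective hinj).trans (MulEquiv.subgroupCongr (by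
        rw [MonoidHom.range_comp, Subgroup.range_subtype]; rfl))).symm
    rcases ih _ hlt _ rfl S' (hT.of_equiv e) with h | ⟨N, hN, hodd, h⟩
    · exact Or.inl (closed_of_quotient S (h.normal_of_core oddCore_quot S'))
    · exact Or.inr (psuPart_of_equiv ((QuotientGroup.quotientMulEquivOfEq oddCore_quot).trans
        QuotientGroup.quotientBot) N hN hodd h)
  -- `O(G) = 1`
  suffices h : (S : Subgroup G).Normal ∨ ∃ L : Subgroup G, L.Normal ∧ Odd L.index ∧
      ∃ (F : Type) (_ : Field F) (_ : Fintype F), Fintype.card F = (2 ^ n) ^ 2 ∧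
        Nonempty (↥L ≃* Cfsg.PSU 3 F (2 ^ n)) by
    rcases h with h | ⟨L, hL, hodd, h⟩
    · refine Or.inl (closed_of_normal S ?_)
      rw [hO, bot_sup_eq]; exact h
    · exact Or.inr (psuPart_of_equiv
        (QuotientGroup.quotientBot.symm.trans (QuotientGroup.quotientMulEquivOfEq hO.symm)) L hL hodd h)
  have sub : ∀ K : Subgroup G, K ≠ ⊤ → (S : Subgroup G) ≤ K → ∀ c ∈ K, orderOf c = 2 →
      (∀ x ∈ K, x * c = c * x) → Closed K := fun K hK hSK c hcK hc2 hcom => by
    have hlt : Nat.card K < k := hk ▸ lt_of_le_of_ne (Subgroup.card_le_card_group K)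
      fun e => hK (Subgroup.card_eq_iff_eq_top K |>.1 e)
    exact closed_of_central_inv hn (ih _ hlt _ rfl (S.subtype hSK)
      (hT.of_equiv (Subgroup.subgroupOfEquivOfLe hSK))) (c := ⟨c, hcK⟩)
      (mem_center_iff.2 fun x => Subtype.ext (hcom x x.2)) (by rw [Subgroup.orderOf_mk]; exact hc2)
  by_cases hz : ∃ c ∈ center G, orderOf c = 2
  · obtain ⟨c, hc, hc2⟩ := hz
    exact Or.inl (normal_of_central hT CfsgLib.Bender.benderGen.{u} (by omega) hO hc hc2 fun K hK hSK hcK =>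
      sub K hK hSK c hcK hc2 fun x _ => mem_center_iff.1 hc x)
  push Not at hz
  have hcl : ∀ t ∈ (S : Subgroup G), orderOf t = 2 → (S : Subgroup G) ≤ centralizer ({t} : Set G) ∧
      Closed ↥(centralizer ({t} : Set G)) := fun t ht ht2 => by
    have htZ : t ∈ Zs S := (mem_Zs hT).2 ⟨ht, CfsgLib.Signalizer.involution_sq ht2⟩
    have hle : (S : Subgroup G) ≤ centralizer ({t} : Set G) := fun s hs =>
      mem_centralizer_singleton_iff.2 (mem_centralizer_iff.1 (le_centralizer_Zs S hs) t htZ).symm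
    refine ⟨hle, sub _ (fun e => hz t (mem_center_iff.2 fun g => ?_) ht2) hle t
      (mem_centralizer_singleton_iff.2 rfl) ht2 fun x hx => mem_centralizer_singleton_iff.1 hx⟩
    exact mem_centralizer_singleton_iff.1 (e ▸ mem_top g)
  have h8 : 8 ≤ Nat.card (Zs S) := by
    rw [card_Zs hT]
    exact le_trans (by norm_num) (Nat.pow_le_pow_right two_pos hn)
  rcases embedded_of_split hO S (Zs_le S) (le_centralizer_Zs S) (fun e he => ((mem_Zs hT).1 he).2)
    (le_trans (by norm_num) h8) (fun g hg => Zs_weak hT hg)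
    ⟨Zs S, Zs_elementary hT, h8, Zs_le S, le_normalizer.trans (normalizer_le_Zs hT)⟩
    (fun t ht ht2 => solvable_of_closed (hcl t ht ht2).2)
    (fun t ht ht2 => by
      refine (split_of_closed (hcl t ht ht2).2 (S.subtype (hcl t ht ht2).1)).trans (sup_le_sup_left ?_ _)
      rw [Sylow.coe_subtype, subgroupOf_map_subtype, inf_eq_left.2 (hcl t ht ht2).1]
      exact normalizer_le_Zs hT)
    with h | ⟨M, hM, hSM⟩
  · haveI := h
    obtain ⟨a, ha, -, -, ha2, -, -⟩ := exists_two_involutions hT (by omega)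
    refine Or.inl (normal_of_closed_normal hO (centralizer (Zs S : Set G)) S (le_centralizer_Zs S)
      (sub _ (fun e => hz a (mem_center_iff.2 fun g => ?_) ha2) (le_centralizer_Zs S) a
        (le_centralizer_Zs S (Zs_le S ha)) ha2 fun x hx => (mem_centralizer_iff.1 hx a ha).symm))
    exact (mem_centralizer_iff.1 (e ▸ mem_top g) a ha).symm
  · exact Or.inr (unitary_of_stronglyEmbedded hT (by omega) hO hM hSM)

end CfsgLib.USylow
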