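import Cfsg.Agent.Lib.PGroups.Suzuki.Unitary
import Cfsg.Agent.Lib.Lie.Suzuki.Borel
import Cfsg.Agent.Lib.Lie.Suzuki.TwoCount
import Cfsg.Agent.Lib.Blocks.PrimeInertial.Examples

/-!
# Facts on the Sylow 2-subgroups of `PSU₃(2ⁿ)`, `SL₂(2ⁿ)` and `Sz(2ⁿ)`
-/

set_option autoImplicit false

namespace CfsgLib.USylow

open Subgroup
open CfsgLib.Classical CfsgLib.Classical.Herm
open CfsgLib.PGroups.Suzuki.Unitary
open scoped commutatorElement

universe u v

/-- What is used of a Sylow 2-subgroup of `PSU₃(2ⁿ)`. -/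
structure UType (P : Type*) [Group P] (n : ℕ) : Prop where
  card : Nat.card P = (2 ^ n) ^ 3
  card_center : Nat.card (center P) = 2 ^ n
  center_iff : ∀ x : P, x ∈ center P ↔ x * x = 1
  sq_mem : ∀ x : P, x * x ∈ center P
  comm_mem : ∀ x y : P, ⁅x, y⁆ ∈ center P
  cen_comm : ∀ x : P, x ∉ center P → ∀ y z : P, Commute y x → Commute z x → Commute y z
  cen_root : ∀ x : P, x ∉ center P → ∀ c ∈ center P, ∃ y : P, Commute y x ∧ y * y = c

theorem UType.of_equiv {P Q : Type*} [Group P] [Group Q] {n : ℕ} (h : UType Q n) (e : P ≃* Q) :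
    UType P n := by
  have hc : ∀ x : P, x ∈ center P ↔ e x ∈ center Q := fun x => by
    simp only [Subgroup.mem_center_iff]
    constructor
    · intro hx g
      obtain ⟨g, rfl⟩ := e.surjective g
      rw [← map_mul, hx, map_mul]
    · intro hx g
      apply e.injective
      rw [map_mul, hx, map_mul]
  have hcomm : ∀ x y : P, Commute x y ↔ Commute (e x) (e y) := fun x y =>
    ⟨fun h => h.map e.toMonoidHom, fun h => e.injective (by rw [map_mul, map_mul]; exact h.eq)⟩
  refine ⟨(Nat.card_congr e.toEquiv).trans h.card, ?_, fun x => ?_, fun x => ?_, fun x y => ?_,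
    fun x hx y z hy hz => ?_, fun x hx c hcz => ?_⟩
  · rw [← h.card_center]
    exact Nat.card_congr (e.toEquiv.subtypeEquiv hc)
  · rw [hc, h.center_iff, ← map_mul, ← map_one e, e.injective.eq_iff]
  · rw [hc, map_mul]; exact h.sq_mem _
  · rw [hc, map_commutatorElement]; exact h.comm_mem _ _
  · exact (hcomm y z).2 (h.cen_comm _ (fun h' => hx ((hc x).2 h')) _ _ ((hcomm y x).1 hy) ((hcomm z x).1 hz))
  · obtain ⟨y, hy, hyy⟩ := h.cen_root _ (fun h' => hx ((hc x).2 h')) _ ((hc c).1 hcz)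
    obtain ⟨y, rfl⟩ := e.surjective y
    exact ⟨y, (hcomm y x).2 hy, e.injective (by rw [map_mul, hyy])⟩

section Param

variable {F : Type u} [Field F] [Finite F] [CharP F 2] {σ : F →+* F} {P : Type v} [Group P]

theorem uType_of_param (hσ : IsInvol σ) (X : Param σ P) {n : ℕ} (hF : Nat.card F = (2 ^ n) ^ 2) :
    UType P n := by
  have hq : Nat.card (fixedSub σ) = 2 ^ n :=
    (Nat.pow_left_injective two_ne_zero (hF.symm.trans hσ.card_sq)).symm
  refine ⟨?_, X.card_center hσ hq, X.mem_center_iff_sq hσ, X.sq_mem_center hσ, fun a b => ?_,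
    fun a ha b c hb hc => ?_, fun a ha c hc => ?_⟩
  · rw [← Nat.card_congr X.el, card_pts hσ hq hF]
  · rw [← X.commutator_eq hσ]
    exact Subgroup.commutator_mem_commutator (Subgroup.mem_top _) (Subgroup.mem_top _)
  · obtain ⟨x, rfl⟩ := X.el.surjective a
    obtain ⟨y, rfl⟩ := X.el.surjective b
    obtain ⟨z, rfl⟩ := X.el.surjective c
    rw [X.mem_center_iff hσ] at ha
    have h1 : σ y.1.1 * x.1.1 = σ x.1.1 * y.1.1 := (X.commute_iff hσ y x).1 hb.eq
    have h2 : σ z.1.1 * x.1.1 = σ x.1.1 * z.1.1 := (X.commute_iff hσ z x).1 hc.eq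
    refine (X.commute_iff hσ y z).2 (mul_right_cancel₀ ha ?_)
    linear_combination z.1.1 * h1 - y.1.1 * h2
  · obtain ⟨x, rfl⟩ := X.el.surjective a
    obtain ⟨d, rfl⟩ := X.el.surjective c
    rw [X.mem_center_iff hσ] at ha hc
    have hd : σ d.1.2 = d.1.2 := by
      have h1 := d.2
      rw [hc, mul_zero] at h1
      linear_combination h1 - add_self' d.1.2
    have hN : σ x.1.1 * x.1.1 ≠ 0 := mul_ne_zero (fun h => ha (IsInvol.apply_eq_zero_iff.1 h)) ha
    obtain ⟨l, hl⟩ := FiniteField.isSquare_of_char_two (CharP.ringChar_of_prime_eq_zero Nat.prime_two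
      (CharP.cast_eq_zero F 2)) (d.1.2 / (σ x.1.1 * x.1.1))
    have hσl : σ l = l := by
      refine CharTwo.sq_injective ?_
      simp only [pow_two]
      rw [← map_mul, ← hl, map_div₀, hd, map_mul, hσ.invol, mul_comm (x.1.1)]
    obtain ⟨y, hy⟩ := exists_pt hσ (l * x.1.1)
    refine ⟨X.el y, (X.commute_iff hσ y x).2 (by rw [hy, map_mul, hσl]; ring), ?_⟩
    obtain ⟨w, hw, he⟩ := X.sq hσ y
    rw [he, X.el.apply_eq_iff_eq, Subtype.ext_iff, hw, hy, map_mul, hσl]
    refine Prod.ext hc.symm ?_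
    show l * σ x.1.1 * (l * x.1.1) = d.1.2
    rw [show l * σ x.1.1 * (l * x.1.1) = (l * l) * (σ x.1.1 * x.1.1) by ring, ← hl,
      div_mul_cancel₀ _ hN]

end Param

theorem uType_psu {n : ℕ} {F : Type u} [Field F] [Fintype F] (hn : 1 ≤ n)
    (hF : Fintype.card F = (2 ^ n) ^ 2) (P : Sylow 2 (Cfsg.PSU 3 F (2 ^ n))) :
    UType ↥(P : Subgroup (Cfsg.PSU 3 F (2 ^ n))) n := by
  haveI := charP_two hn hF
  obtain ⟨X⟩ := exists_param hn hF P
  exact uType_of_param (powHom_isInvol hF) X (by rw [Nat.card_eq_fintype_card]; exact hF)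

/-- In characteristic two an element of `SL₂` of order dividing four has order dividing two. -/
theorem sl_two_sq_one {F : Type*} [Field F] [CharP F 2] (g : Matrix.SpecialLinearGroup (Fin 2) F)
    (h : g ^ 4 = 1) : g * g = 1 := by
  set X : Matrix (Fin 2) (Fin 2) F := g.1 with hX
  set t := X 0 0 + X 1 1
  have hdet := g.2
  rw [Matrix.det_fin_two] at hdet
  have h2 : X * X + 1 = t • X := by
    ext i j
    fin_cases i <;> fin_cases j <;> simp [Matrix.mul_apply, Fin.sum_univ_two, t, hX]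
    · linear_combination -hdet
    · ring
    · ring
    · linear_combination -hdet
  have h4 : X * X * (X * X) = 1 := by
    have := congrArg Subtype.val h
    simpa [pow_succ, Matrix.mul_assoc, hX] using this
  have hsum : ∀ A : Matrix (Fin 2) (Fin 2) F, A + A = 0 := fun A => by
    ext i j; simp [CharTwo.add_self_eq_zero]
  have h0 : (t • X) * (t • X) = 0 := by
    rw [← h2, show (X * X + 1) * (X * X + 1) = X * X * (X * X) + 1 + (X * X + X * X) by noncomm_ring,
      h4, hsum, hsum, add_zero]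
  have ht : t = 0 := by
    rw [smul_mul_smul_comm] at h0
    have h0' := congrArg (fun A => A * (X * X)) h0
    simp only [Matrix.smul_mul, Matrix.zero_mul] at h0'
    rw [h4, ← Matrix.ext_iff] at h0'
    have := h0' 0 0
    simpa using this
  refine Subtype.ext ?_
  show X * X = 1
  rw [ht, zero_smul] at h2
  calc X * X = (X * X + 1) + 1 := by rw [add_assoc, hsum, add_zero]
    _ = 1 := by rw [h2, zero_add]

/-- The shape of a Sylow 2-subgroup of a Suzuki group. -/
theorem suzuki_shape {K : Type u} [Group K] [Finite K] (h : Cfsg.Lie.IsoSuzuki K) (P : Sylow 2 K) :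
    ∃ k : ℕ, 1 < k ∧ Nat.card P = k ^ 2 ∧ Nat.card {x : P // x * x = 1} = k := by
  obtain ⟨F, i1, i2, m, hm, hF, ⟨e⟩⟩ := h
  let _ := i1
  let _ := i2
  haveI : Fact (Nat.Prime 2) := ⟨Nat.prime_two⟩
  have := CfsgLib.Lie.Suzuki.charTwo_of_card (m := m) hF
  classical
  let f : Cfsg.Sz F m ≃* K := (CfsgLib.Lie.Suzuki.equivLie hm hF).trans e.symm
  let U := CfsgLib.Lie.Suzuki.unip hF
  have hUK : IsPGroup 2 (U.map f.toMonoidHom) := (CfsgLib.Lie.Suzuki.isPGroup_unip hF).map _
  have hidx : Odd (U.map f.toMonoidHom).index := by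
    show Odd (U.map (f : Cfsg.Sz F m →* K)).index
    rw [Subgroup.index_map_equiv]; exact CfsgLib.Lie.Suzuki.odd_index_unip hF hm
  let Q : Sylow 2 K := hUK.toSylow (fun h => Nat.not_even_iff_odd.2 hidx (even_iff_two_dvd.2 h))
  let g : P ≃* U := (P.equiv Q).trans (U.equivMapOfInjective f.toMonoidHom f.injective).symm
  refine ⟨Fintype.card F, Fintype.one_lt_card, ?_, ?_⟩
  · exact (Nat.card_congr g.toEquiv).trans (CfsgLib.Lie.Suzuki.card_unip hF)
  · have hsq : ∀ x : P, x * x = 1 ↔ g x * g x = 1 := fun x => by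
      rw [← map_mul, ← map_one g, g.injective.eq_iff]
    have e₂ : Nat.card {x : P // x * x = 1} = Nat.card {x : U // x * x = 1} :=
      Nat.card_congr (Equiv.subtypeEquiv g.toEquiv hsq)
    rw [e₂, ← Nat.card_eq_fintype_card]
    refine (Nat.card_congr (Equiv.ofBijective (fun b : F =>
      (⟨⟨CfsgLib.Lie.Suzuki.uS hF 0 b, CfsgLib.Lie.Suzuki.uS_mem hF _ _⟩, ?_⟩ : {x : U // x * x = 1})) ?_)).symm
    · refine Subtype.ext ?_
      show CfsgLib.Lie.Suzuki.uS hF 0 b * CfsgLib.Lie.Suzuki.uS hF 0 b = 1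
      rw [← pow_two, CfsgLib.Lie.Suzuki.involution_uS_iff]
    · refine ⟨fun a b h => ?_, fun x => ?_⟩
      · exact (CfsgLib.Lie.Suzuki.uS_inj hF (congrArg Subtype.val (congrArg Subtype.val h))).2
      · obtain ⟨⟨_, a, b, rfl⟩, hx⟩ := x
        have h0 : a = 0 := (CfsgLib.Lie.Suzuki.involution_uS_iff hF).1 (by
          rw [pow_two]; exact congrArg Subtype.val hx)
        subst h0; exact ⟨b, rfl⟩

end CfsgLib.USylow
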