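import Cfsg.Agent.Lib.Recog.USylow.Homocyclic
import Cfsg.Agent.Lib.Blocks.PrimeInertial.Quotient
import Cfsg.Agent.Lib.TwoGroups.StrongEmbedding
import Cfsg.Agent.Lib.ZStar.Main

/-!
# A central involution makes the Sylow 2-subgroup normal

The Sylow 2-subgroup is of the type of `PSU₃(2ⁿ)`. Modulo the central involutions `Z0` every involution
centraliser is solvable, so there is a strongly embedded subgroup and one class of involutions, while
elements of order four with distinct squares are not conjugate modulo `Z0`.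
-/

set_option autoImplicit false

namespace CfsgLib.USylow

open Subgroup
open CfsgLib.Classical.TwoType
open scoped commutatorElement

universe u

variable {G : Type u} [Group G] [Finite G]

/-- The centre of a Sylow subgroup, in the group. -/
def Zs (S : Sylow 2 G) : Subgroup G := (center ↥(S : Subgroup G)).map (S : Subgroup G).subtype

theorem Zs_le (S : Sylow 2 G) : Zs S ≤ (S : Subgroup G) := map_subtype_le _

theorem le_centralizer_Zs (S : Sylow 2 G) : (S : Subgroup G) ≤ centralizer (Zs S : Set G) := by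
  intro s hs
  rw [mem_centralizer_iff]
  rintro _ ⟨z, hz, rfl⟩
  exact (congrArg Subtype.val (mem_center_iff.1 hz ⟨s, hs⟩)).symm

section UType

variable {n : ℕ} {S : Sylow 2 G} (hT : UType ↥(S : Subgroup G) n)

include hT

theorem card_Zs : Nat.card (Zs S) = 2 ^ n := by
  rw [Zs, card_map_of_injective (S : Subgroup G).subtype_injective, hT.card_center]

theorem mem_Zs {x : G} : x ∈ Zs S ↔ x ∈ (S : Subgroup G) ∧ x * x = 1 := by
  constructor
  · rintro ⟨z, hz, rfl⟩
    exact ⟨z.2, congrArg Subtype.val ((hT.center_iff z).1 hz)⟩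
  · rintro ⟨hx, hx2⟩
    exact ⟨⟨x, hx⟩, (hT.center_iff _).2 (Subtype.ext hx2), rfl⟩

theorem Zs_elementary : Cfsg.IsElementaryAbelian 2 (Zs S) :=
  ⟨⟨⟨fun a b => Subtype.ext (mem_centralizer_iff.1 (le_centralizer_Zs S (Zs_le S b.2)) _ a.2)⟩⟩,
    fun a ha => by rw [pow_two]; exact ((mem_Zs hT).1 ha).2⟩

theorem Zs_weak {g : G} (hg : ∀ e ∈ Zs S, g * e * g⁻¹ ∈ (S : Subgroup G)) :
    ∀ e ∈ Zs S, g * e * g⁻¹ ∈ Zs S := fun e he => (mem_Zs hT).2 ⟨hg e he, by
  rw [show g * e * g⁻¹ * (g * e * g⁻¹) = g * (e * e) * g⁻¹ by group, ((mem_Zs hT).1 he).2, mul_one,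
    mul_inv_cancel]⟩

theorem mem_normalizer_Zs {g : G} (hg : ∀ e ∈ Zs S, g * e * g⁻¹ ∈ (S : Subgroup G)) :
    g ∈ normalizer (Zs S : Set G) := by
  rw [mem_normalizer_iff_map_conj_eq]
  refine Subgroup.eq_of_le_of_card_ge (by rintro _ ⟨e, he, rfl⟩; exact Zs_weak hT hg e he) ?_
  rw [card_map_of_injective (MulAut.conj g).injective]

theorem normalizer_le_Zs : normalizer ((S : Subgroup G) : Set G) ≤ normalizer (Zs S : Set G) :=
  fun g hg => mem_normalizer_Zs hT fun e he => (mem_normalizer_iff.1 hg e).1 (Zs_le S he)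

/-- The involutions of a 2-group containing `Z(S)` lie in it. -/
theorem inv_mem_Zs {Q : Subgroup G} (hQ : IsPGroup 2 Q) (hZQ : Zs S ≤ Q) {a : G} (ha : a ∈ Q)
    (ha2 : a * a = 1) : a ∈ Zs S := by
  obtain ⟨h, hh⟩ := exists_conj_into_top S hQ
  have h1 := mem_normalizer_Zs hT fun e he => hh e (hZQ he)
  refine (mem_normalizer_iff.1 h1 a).2 ((mem_Zs hT).2 ⟨hh a ha, ?_⟩)
  rw [show h * a * h⁻¹ * (h * a * h⁻¹) = h * (a * a) * h⁻¹ by group, ha2, mul_one, mul_inv_cancel]

theorem Hom4_centralizer {x : G} (hx : x ∈ (S : Subgroup G)) (hx2 : x * x ≠ 1) :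
    Hom4 ↥((S : Subgroup G) ⊓ centralizer ({x} : Set G)) := by
  have hnc : (⟨x, hx⟩ : (S : Subgroup G)) ∉ center ↥(S : Subgroup G) := fun h =>
    hx2 (congrArg Subtype.val ((hT.center_iff _).1 h))
  have hcx : ∀ a : ↥((S : Subgroup G) ⊓ centralizer ({x} : Set G)),
      Commute (⟨a, a.2.1⟩ : (S : Subgroup G)) ⟨x, hx⟩ := fun a =>
    Subtype.ext (mem_centralizer_singleton_iff.1 a.2.2)
  refine ⟨fun a b => Subtype.ext (show (a : G) * b = b * a from
    congrArg Subtype.val (hT.cen_comm _ hnc _ _ (hcx a) (hcx b)).eq), fun a => Subtype.ext ?_, fun a ha => ?_⟩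
  · have h := congrArg Subtype.val ((hT.center_iff _).1 (hT.sq_mem ⟨a, a.2.1⟩))
    change (a : G) * a * (a * a) = 1 at h
    show (a : G) ^ 4 = 1
    rw [← h]
    simp only [pow_succ, pow_zero, one_mul, mul_assoc]
  · obtain ⟨y, hy, hyy⟩ := hT.cen_root _ hnc ⟨a, a.2.1⟩
      ((hT.center_iff _).2 (Subtype.ext (congrArg Subtype.val ha :)))
    exact ⟨⟨y, y.2, mem_centralizer_singleton_iff.2 (congrArg Subtype.val hy.eq)⟩,
      Subtype.ext (show (y : G) * y = a from congrArg Subtype.val hyy)⟩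

/-- A Sylow 2-subgroup of the centraliser of an element of order four. -/
theorem exists_sylow_centralizer {x : G} (hx : x ∈ (S : Subgroup G)) (hx2 : x * x ≠ 1) :
    ∃ A : Sylow 2 ↥(centralizer ({x} : Set G)),
      Zs S ≤ (A : Subgroup ↥(centralizer ({x} : Set G))).map (centralizer ({x} : Set G)).subtype ∧
      Hom4 ↥(A : Subgroup ↥(centralizer ({x} : Set G))) := by
  haveI : Fact (Nat.Prime 2) := ⟨Nat.prime_two⟩
  set C := centralizer ({x} : Set G) with hC
  have hxC : x ∈ C := mem_centralizer_singleton_iff.2 rfl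
  have hQC : Zs S ⊔ zpowers x ≤ C := sup_le
    (fun z hz => mem_centralizer_singleton_iff.2 (mem_centralizer_iff.1 (le_centralizer_Zs S hx) z hz))
    (zpowers_le.2 hxC)
  obtain ⟨A, hA⟩ := ((S.2.to_le (sup_le (Zs_le S) (zpowers_le.2 hx)) :
    IsPGroup 2 ↥(Zs S ⊔ zpowers x)).comap_of_injective C.subtype C.subtype_injective).exists_le_sylow
  obtain ⟨h, hh⟩ := exists_conj_into_top S (A.2.map C.subtype)
  have hxA : (⟨x, hxC⟩ : C) ∈ (A : Subgroup C) :=
    hA (show x ∈ Zs S ⊔ zpowers x from mem_sup_right (mem_zpowers x))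
  refine ⟨A, fun z hz => ⟨⟨z, hQC (mem_sup_left hz)⟩, hA (show z ∈ _ from mem_sup_left hz), rfl⟩, ?_⟩
  have hx' : h * x * h⁻¹ ∈ (S : Subgroup G) := hh x ⟨_, hxA, rfl⟩
  have hx'2 : h * x * h⁻¹ * (h * x * h⁻¹) ≠ 1 := fun e => hx2 (by
    rw [show h * x * h⁻¹ * (h * x * h⁻¹) = h * (x * x) * h⁻¹ by group, conj_eq_one_iff] at e
    exact e)
  set A' := (S : Subgroup G) ⊓ centralizer ({h * x * h⁻¹} : Set G) with hA'
  let f : C →* G := (MulAut.conj h).toMonoidHom.comp C.subtype
  have hf : Function.Injective f := (MulAut.conj h).injective.comp C.subtype_injective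
  have hfA : (A : Subgroup C).map f ≤ A' := by
    rintro _ ⟨a, ha, rfl⟩
    exact ⟨hh _ ⟨a, ha, rfl⟩, mem_centralizer_singleton_iff.2
      (Commute.map (mem_centralizer_singleton_iff.1 a.2 : Commute (a : G) x) (MulAut.conj h).toMonoidHom).eq⟩
  have hA'C : A' ≤ f.range := fun y hy => by
    refine ⟨⟨h⁻¹ * y * h, mem_centralizer_singleton_iff.2 ?_⟩, ?_⟩
    · have e := mem_centralizer_singleton_iff.1 hy.2
      calc h⁻¹ * y * h * x = h⁻¹ * (y * (h * x * h⁻¹)) * h := by group
        _ = h⁻¹ * (h * x * h⁻¹ * y) * h := by rw [e]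
        _ = x * (h⁻¹ * y * h) := by group
    · show h * (h⁻¹ * y * h) * h⁻¹ = y
      group
  have heq : A'.comap f = (A : Subgroup C) :=
    A.3 ((S.2.to_le inf_le_left).comap_of_injective f hf) (map_le_iff_le_comap.1 hfA)
  have hmap : (A : Subgroup C).map f = A' := by
    rw [← heq, map_comap_eq, inf_eq_right.2 hA'C]
  exact (Hom4_centralizer hT hx' hx'2).of_equiv
    (((A : Subgroup C).equivMapOfInjective f hf).trans (MulEquiv.subgroupCongr hmap))

end UType

/-- The preimage of the centraliser of an image. -/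
theorem mem_comap_centralizer {Z0 : Subgroup G} [Z0.Normal] {u g : G} :
    g ∈ (centralizer ({QuotientGroup.mk' Z0 u} : Set (G ⧸ Z0))).comap (QuotientGroup.mk' Z0) ↔
      ⁅g, u⁆ ∈ Z0 := by
  rw [mem_comap, mem_centralizer_singleton_iff, ← commutatorElement_eq_one_iff_mul_comm,
    ← map_commutatorElement, QuotientGroup.mk'_apply, QuotientGroup.eq_one_iff]

section Step

variable {Z0 : Subgroup G} [Z0.Normal] (hZc : Z0 ≤ center G) (hZ2 : IsPGroup 2 Z0) (u : G)

include hZc

/-- The commutator with `u` on the preimage of the centraliser of its image. -/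
noncomputable def commHom :
    ↥((centralizer ({QuotientGroup.mk' Z0 u} : Set (G ⧸ Z0))).comap (QuotientGroup.mk' Z0)) →* Z0 where
  toFun g := ⟨⁅(g : G), u⁆, mem_comap_centralizer.1 g.2⟩
  map_one' := Subtype.ext (commutatorElement_one_left u)
  map_mul' g h := Subtype.ext (by
    show ⁅(g : G) * h, u⁆ = ⁅(g : G), u⁆ * ⁅(h : G), u⁆
    have hc := mem_center_iff.1 (hZc (mem_comap_centralizer.1 h.2))
    calc ⁅(g : G) * h, u⁆ = g * ⁅(h : G), u⁆ * (u * (g : G)⁻¹ * u⁻¹) := by
          rw [commutatorElement_def, commutatorElement_def]; group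
      _ = ⁅(h : G), u⁆ * g * (u * (g : G)⁻¹ * u⁻¹) := by rw [hc]
      _ = ⁅(h : G), u⁆ * ⁅(g : G), u⁆ := by rw [commutatorElement_def (g : G) u]; group
      _ = ⁅(g : G), u⁆ * ⁅(h : G), u⁆ := (hc _).symm)

theorem ker_commHom : (commHom hZc u).ker =
    (centralizer ({u} : Set G)).subgroupOf
      ((centralizer ({QuotientGroup.mk' Z0 u} : Set (G ⧸ Z0))).comap (QuotientGroup.mk' Z0)) := by
  ext g
  rw [MonoidHom.mem_ker, mem_subgroupOf, mem_centralizer_singleton_iff, Subtype.ext_iff,
    ← commutatorElement_eq_one_iff_mul_comm]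
  rfl

theorem centralizer_le_comap : centralizer ({u} : Set G) ≤
    (centralizer ({QuotientGroup.mk' Z0 u} : Set (G ⧸ Z0))).comap (QuotientGroup.mk' Z0) := fun g hg =>
  mem_comap_centralizer.2 (by
    rw [commutatorElement_eq_one_iff_mul_comm.2 (mem_centralizer_singleton_iff.1 hg)]
    exact one_mem Z0)

/-- Solvability passes to the centraliser of the image. -/
theorem solvable_image (hs : Group.IsSolvable ↥(centralizer ({u} : Set G))) :
    Group.IsSolvable ↥(centralizer ({QuotientGroup.mk' Z0 u} : Set (G ⧸ Z0))) := by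
  haveI := hs
  set H := (centralizer ({QuotientGroup.mk' Z0 u} : Set (G ⧸ Z0))).comap (QuotientGroup.mk' Z0)
  haveI : Group.IsSolvable Z0 := Group.isSolvable_of_comm fun a b =>
    Subtype.ext (mem_center_iff.1 (hZc b.2) a)
  haveI : Group.IsSolvable H := Group.isSolvable_of_ker_le_range
    (inclusion (centralizer_le_comap hZc u)) (commHom hZc u) (by
      rw [ker_commHom]
      intro g hg
      exact ⟨⟨g, mem_subgroupOf.1 hg⟩, rfl⟩)
  exact Group.isSolvable_of_surjective (f := (QuotientGroup.mk' Z0).subgroupComap _)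
    (MonoidHom.subgroupComap_surjective_of_surjective _ _ (QuotientGroup.mk'_surjective Z0))

include hZ2

/-- A subgroup of odd index containing the centraliser is the whole preimage. -/
theorem comap_eq_sup {R : Subgroup G} (hR : R ≤
      (centralizer ({QuotientGroup.mk' Z0 u} : Set (G ⧸ Z0))).comap (QuotientGroup.mk' Z0))
    (hodd : Odd (R.relIndex
      ((centralizer ({QuotientGroup.mk' Z0 u} : Set (G ⧸ Z0))).comap (QuotientGroup.mk' Z0)))) :
    centralizer ({u} : Set G) ⊔ R =
      (centralizer ({QuotientGroup.mk' Z0 u} : Set (G ⧸ Z0))).comap (QuotientGroup.mk' Z0) := by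
  haveI : Fact (Nat.Prime 2) := ⟨Nat.prime_two⟩
  set H := (centralizer ({QuotientGroup.mk' Z0 u} : Set (G ⧸ Z0))).comap (QuotientGroup.mk' Z0)
  set K := centralizer ({u} : Set G)
  have hK : K ≤ H := centralizer_le_comap hZc u
  refine le_antisymm (sup_le hK hR) ?_
  rw [← Subgroup.relIndex_eq_one]
  obtain ⟨k, hk⟩ : ∃ k, K.relIndex H = 2 ^ k := by
    obtain ⟨k, hk⟩ := (hZ2.to_subgroup (commHom hZc u).range).exists_card_eq
    exact ⟨k, by rw [Subgroup.relIndex, ← ker_commHom hZc u, Subgroup.index_ker, hk]⟩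
  have h1 : (K ⊔ R).relIndex H ∣ 2 ^ k := hk ▸ relIndex_dvd_of_le_left H le_sup_left
  have h2 : (K ⊔ R).relIndex H ∣ R.relIndex H := relIndex_dvd_of_le_left H le_sup_right
  exact Nat.eq_one_of_dvd_coprimes ((hodd.coprime_two_left).pow_left k) h1 h2

omit hZ2

/-- The preimage normalises the centraliser. -/
theorem comap_le_normalizer : (centralizer ({QuotientGroup.mk' Z0 u} : Set (G ⧸ Z0))).comap
    (QuotientGroup.mk' Z0) ≤ normalizer (centralizer ({u} : Set G) : Set G) := fun g hg => by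
  have hc : ∀ x : G, x ∈ centralizer ({u} : Set G) ↔ x ∈ centralizer ({g * u * g⁻¹} : Set G) := fun x => by
    have h0 := mem_center_iff.1 (hZc (mem_comap_centralizer.1 hg))
    rw [show g * u * g⁻¹ = ⁅g, u⁆ * u by rw [commutatorElement_def]; group,
      mem_centralizer_singleton_iff, mem_centralizer_singleton_iff, ← mul_assoc, h0 x,
      mul_assoc ⁅g, u⁆ x u, mul_assoc ⁅g, u⁆ u x, mul_right_inj]
  refine mem_normalizer_iff.2 fun x => ?_
  rw [hc (g * x * g⁻¹), mem_centralizer_singleton_iff, mem_centralizer_singleton_iff]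
  exact ⟨fun e => (Commute.map (e : Commute x u) (MulAut.conj g).toMonoidHom).eq, fun e => by
    have := (Commute.map (e : Commute (g * x * g⁻¹) (g * u * g⁻¹)) (MulAut.conj g⁻¹).toMonoidHom).eq
    simpa [MulAut.conj_apply, mul_assoc] using this⟩

/-- A factorisation of the preimage gives the splitting of the image. -/
theorem split_image {N : Subgroup G}
    (h : (centralizer ({QuotientGroup.mk' Z0 u} : Set (G ⧸ Z0))).comap (QuotientGroup.mk' Z0) ≤
      oC u ⊔ N) :
    centralizer ({QuotientGroup.mk' Z0 u} : Set (G ⧸ Z0)) ≤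
      oC (QuotientGroup.mk' Z0 u) ⊔ N.map (QuotientGroup.mk' Z0) := by
  set π := QuotientGroup.mk' Z0
  set H := (centralizer ({π u} : Set (G ⧸ Z0))).comap π
  have hπ : Function.Surjective π := QuotientGroup.mk'_surjective Z0
  have hmap : H.map π = centralizer ({π u} : Set (G ⧸ Z0)) := map_comap_eq_self_of_surjective hπ _
  have hOn : H ≤ normalizer (oC u : Set G) := fun g hg => by
    refine mem_normalizer_iff_map_conj_eq.2 (Subgroup.eq_of_le_of_card_ge ((map_oC_le g u).trans ?_) ?_)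
    · -- the two centralisers are equal
      have e : centralizer ({g * u * g⁻¹} : Set G) = centralizer ({u} : Set G) := by
        ext x
        have h0 := mem_center_iff.1 (hZc (mem_comap_centralizer.1 hg))
        rw [show g * u * g⁻¹ = ⁅g, u⁆ * u by rw [commutatorElement_def]; group,
          mem_centralizer_singleton_iff, mem_centralizer_singleton_iff, ← mul_assoc, h0 x,
          mul_assoc ⁅g, u⁆ x u, mul_assoc ⁅g, u⁆ u x, mul_right_inj]
      unfold oC
      rw [e]
    · rw [card_map_of_injective (MulAut.conj g).injective]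
  have hle : (oC u).map π ≤ oC (π u) := by
    have h1 : (oC u).map π ≤ centralizer ({π u} : Set (G ⧸ Z0)) := by
      rintro _ ⟨x, hx, rfl⟩
      rw [mem_centralizer_singleton_iff, ← map_mul, ← map_mul,
        mem_centralizer_singleton_iff.1 (oC_le u hx)]
    have h2 : centralizer ({π u} : Set (G ⧸ Z0)) ≤ normalizer ((oC u).map π : Set (G ⧸ Z0)) :=
      hmap ▸ (map_mono hOn).trans (le_normalizer_map π)
    haveI : (((oC u).map π).subgroupOf (centralizer ({π u} : Set (G ⧸ Z0)))).Normal :=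
      normal_subgroupOf_of_le_normalizer h2
    intro x hx
    refine ⟨⟨x, h1 hx⟩, CfsgLib.ZStar.le_oddCore (N := ((oC u).map π).subgroupOf _) inferInstance ?_
      (mem_subgroupOf.2 hx), rfl⟩
    rw [Nat.card_congr (subgroupOfEquivOfLe h1).toEquiv]
    exact (odd_oC u).of_dvd_nat (card_map_dvd _ _)
  calc centralizer ({π u} : Set (G ⧸ Z0)) = H.map π := hmap.symm
    _ ≤ (oC u).map π ⊔ N.map π := (map_mono h).trans (Subgroup.map_sup _ _ _).le
    _ ≤ oC (π u) ⊔ N.map π := sup_le_sup_right hle _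

end Step

end CfsgLib.USylow
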