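import Cfsg.Agent.Lib.Recog.USylow.Central

/-!
# The case of a central involution
-/

set_option autoImplicit false

namespace CfsgLib.USylow

open Subgroup
open CfsgLib.Classical.TwoType
open scoped commutatorElement

universe u

variable {G : Type u} [Group G] [Finite G]

/-- An element centralised by `S` whose conjugates in a set of two translates by central involutions. -/
theorem fix_of_translate (S : Sylow 2 G) {g a z : G} (hg : g ∈ normalizer ((S : Subgroup G) : Set G))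
    (ha : a ∈ centralizer ((S : Subgroup G) : Set G)) (hz : z ∈ center G) (hz2 : z * z = 1)
    (e : g * a * g⁻¹ = a * z) : z = 1 := by
  haveI : Fact (Nat.Prime 2) := ⟨Nat.prime_two⟩
  have key : ∀ i : ℕ, g ^ i * a * (g ^ i)⁻¹ = a * z ^ i := by
    intro i
    induction i with
    | zero => simp
    | succ i ih =>
      rw [pow_succ' g, show g * g ^ i * a * (g * g ^ i)⁻¹ = g * (g ^ i * a * (g ^ i)⁻¹) * g⁻¹ by group, ih,
        show g * (a * z ^ i) * g⁻¹ = (g * a * g⁻¹) * (g * z ^ i * g⁻¹) by group, e,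
        mem_center_iff.1 (pow_mem hz i) g, mul_inv_cancel_right, pow_succ', mul_assoc]
  haveI : ((S : Subgroup G).subgroupOf (normalizer ((S : Subgroup G) : Set G))).Normal :=
    Subgroup.normal_in_normalizer
  set k := ((S : Subgroup G).subgroupOf (normalizer ((S : Subgroup G) : Set G))).index with hkdef
  have hk : g ^ k ∈ (S : Subgroup G) := mem_subgroupOf.1 (Subgroup.pow_index_mem
    ((S : Subgroup G).subgroupOf (normalizer ((S : Subgroup G) : Set G))) ⟨g, hg⟩)
  have hodd : Odd k := Nat.not_even_iff_odd.1 fun he => S.not_dvd_index ((even_iff_two_dvd.1 he).trans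
    ⟨_, (Subgroup.relIndex_mul_index (le_normalizer (H := (S : Subgroup G)))).symm⟩)
  have h := key k
  rw [mem_centralizer_iff.1 ha _ hk, mul_inv_cancel_right] at h
  obtain ⟨i, hi⟩ := hodd
  rw [hi, pow_succ, pow_mul, pow_two, hz2, one_pow, one_mul] at h
  exact mul_eq_left.1 h.symm

section Main

variable {n : ℕ} {S : Sylow 2 G} (hT : UType ↥(S : Subgroup G) n)

include hT

/-- The central involutions cannot have index two in `Z(S)`. -/
theorem relIndex_ne_two (hO : Cfsg.oddCore G = ⊥) :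
    (Zs S ⊓ center G).relIndex (Zs S) ≠ 2 := fun h2 => by
  haveI : Fact (Nat.Prime 2) := ⟨Nat.prime_two⟩
  haveI hEc := (Zs_elementary hT).1
  obtain ⟨a, haZ, ha0⟩ : ∃ a ∈ Zs S, a ∉ Zs S ⊓ center G := by
    by_contra hh
    push Not at hh
    rw [relIndex_eq_one.2 hh] at h2
    omega
  have hsq : ∀ {x}, x ∈ Zs S → x * x = 1 := fun hx => ((mem_Zs hT).1 hx).2
  have hac : a ∈ centralizer ((S : Subgroup G) : Set G) := mem_centralizer_iff.2 fun s hs =>
    (mem_centralizer_iff.1 (le_centralizer_Zs S hs) a haZ).symm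
  -- conjugates in `Z(S)` are equal to `a`
  have huniq : ∀ b ∈ Zs S, IsConj a b → b = a := by
    intro b hb hab
    obtain ⟨c, hc⟩ := isConj_iff.1 hab
    have hb0 : b ∉ Zs S ⊓ center G := fun h => ha0 ⟨haZ, by
      rw [show a = c⁻¹ * b * c by rw [← hc]; group, mul_assoc, ← mem_center_iff.1 h.2 c, ← mul_assoc,
        inv_mul_cancel, one_mul]
      exact h.2⟩
    set z := a * b with hzdef
    have hz : z ∈ Zs S ⊓ center G := by
      haveI : ((Zs S ⊓ center G).subgroupOf (Zs S)).Normal := Subgroup.normal_of_comm _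
      have := Subgroup.mul_mem_iff_of_index_two (H := (Zs S ⊓ center G).subgroupOf (Zs S)) h2
        (a := ⟨a, haZ⟩) (b := ⟨b, hb⟩)
      simp only [mem_subgroupOf] at this
      exact this.2 (iff_of_false ha0 hb0)
    have hbc : b ∈ centralizer ((S : Subgroup G) : Set G) := mem_centralizer_iff.2 fun s hs =>
      (mem_centralizer_iff.1 (le_centralizer_Zs S hs) b hb).symm
    obtain ⟨g, hg, e⟩ := S.conj_eq_normalizer_conj_of_mem_centralizer a c⁻¹ hac (by rwa [inv_inv, hc])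
    rw [inv_inv, hc] at e
    have hb' : b = a * z := by rw [hzdef, ← mul_assoc, hsq haZ, one_mul]
    have hz1 := fix_of_translate S (inv_mem hg) hac hz.2 (hsq hz.1) (by rw [inv_inv, ← e, hb'])
    rw [hb', hz1, mul_one]
  have ha2 : orderOf a = 2 := orderOf_eq_prime (by rw [pow_two]; exact hsq haZ) fun e =>
    ha0 (e ▸ one_mem _)
  have hiso : Cfsg.IsIsolatedInvolution a := by
    refine ⟨ha2, fun g hg => ?_⟩
    have hgo : orderOf (g * a * g⁻¹) = 2 := by rw [CfsgLib.Signalizer.orderOf_conj, ha2]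
    have hP : IsPGroup 2 ↥(zpowers a ⊔ zpowers (g * a * g⁻¹)) :=
      IsPGroup.to_sup_of_normal_left' (isPGroup_of_involution ha2) (isPGroup_of_involution hgo)
        (zpowers_le.2 (centralizer_le_normalizer _ (by
          rw [mem_centralizer_iff]
          intro x hx
          obtain ⟨i, rfl⟩ := mem_zpowers_iff.1 hx
          exact (hg.zpow_left i).eq)))
    obtain ⟨h, hh⟩ := exists_conj_into_top S hP
    have key : ∀ x, IsConj a x → x ∈ zpowers a ⊔ zpowers (g * a * g⁻¹) → h * x * h⁻¹ = a := fun x hx hxm => by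
      refine huniq _ ((mem_Zs hT).2 ⟨hh x hxm, ?_⟩) (hx.trans (isConj_iff.2 ⟨h, rfl⟩))
      obtain ⟨c, rfl⟩ := isConj_iff.1 hx
      calc h * (c * a * c⁻¹) * h⁻¹ * (h * (c * a * c⁻¹) * h⁻¹) = h * (c * (a * a) * c⁻¹) * h⁻¹ := by group
        _ = 1 := by rw [hsq haZ, mul_one, mul_inv_cancel, mul_one, mul_inv_cancel]
    exact (MulAut.conj h).injective ((key _ (isConj_iff.2 ⟨g, rfl⟩) (mem_sup_right (mem_zpowers _))).trans
      (key a (IsConj.refl a) (mem_sup_left (mem_zpowers a))).symm)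
  refine ha0 ⟨haZ, mem_center_iff.2 fun g => ?_⟩
  have := CfsgLib.ZStar.mem_oddCore_of_isolated hiso g
  rw [hO, mem_bot] at this
  exact (commutatorElement_eq_one_iff_mul_comm.1 (by rw [commutatorElement_def]; exact this)).symm

/-- Every element of the centre is a square. -/
theorem exists_root (hn : 1 ≤ n) {z : G} (hz : z ∈ Zs S) : ∃ y ∈ (S : Subgroup G), y * y = z := by
  obtain ⟨x, hx⟩ : ∃ x : (S : Subgroup G), x ∉ center ↥(S : Subgroup G) := by
    by_contra hh
    push Not at hh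
    have h := hT.card_center
    rw [(top_le_iff.1 (fun x _ => hh x) : center ↥(S : Subgroup G) = ⊤), card_top, hT.card] at h
    have h2 : 1 < 2 ^ n := Nat.one_lt_two_pow (by omega)
    have := Nat.pow_lt_pow_right h2 (show 1 < 3 by norm_num)
    rw [pow_one] at this
    omega
  obtain ⟨c, hc, rfl⟩ := hz
  obtain ⟨y, -, hy⟩ := hT.cen_root x hx c hc
  exact ⟨y, y.2, congrArg Subtype.val hy⟩

/-- The general step: `P` is `Z(S)` or `S`, taken modulo the central involutions. -/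
theorem normal_or_conj (hn : 2 ≤ n) (hO : Cfsg.oddCore G = ⊥) (Z0 : Subgroup G) [Z0.Normal]
    (hZ0 : Z0 = Zs S ⊓ center G) {P : Subgroup G} (hZP : Zs S ≤ P) (hPS : P ≤ (S : Subgroup G))
    (hPsq : ∀ p ∈ P, p * p ∈ Z0) (hPcen : ∀ s ∈ (S : Subgroup G), ∀ p ∈ P, ⁅s, p⁆ ∈ Z0)
    (hP4 : 4 * Nat.card Z0 ≤ Nat.card P)
    (hPweak : ∀ g : G, (∀ p ∈ P, g * p * g⁻¹ ∈ (S : Subgroup G)) → ∀ p ∈ P, g * p * g⁻¹ ∈ P)
    (hU : ∃ U : Subgroup G, Zs S ≤ U ∧ U ≤ (S : Subgroup G) ∧ 8 * Nat.card Z0 ≤ Nat.card U ∧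
      (∀ v ∈ U, v * v ∈ Z0) ∧ ∀ v ∈ U, ∀ w ∈ U, ⁅v, w⁆ ∈ Z0)
    (hloc : ∀ u ∈ (S : Subgroup G), u * u ∈ Z0 → u ∉ Z0 →
      Group.IsSolvable ↥(centralizer ({u} : Set G)) ∧
      (centralizer ({QuotientGroup.mk' Z0 u} : Set (G ⧸ Z0))).comap (QuotientGroup.mk' Z0) ≤
        oC u ⊔ normalizer (P : Set G)) :
    P.Normal ∨ ∀ x ∈ (S : Subgroup G), ∀ y ∈ (S : Subgroup G), x * x ∈ Z0 → x ∉ Z0 → y * y ∈ Z0 →
      y ∉ Z0 → x * x = y * y := by
  haveI : Fact (Nat.Prime 2) := ⟨Nat.prime_two⟩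
  have hZc : Z0 ≤ center G := hZ0 ▸ inf_le_right
  have hZS : Z0 ≤ Zs S := hZ0 ▸ inf_le_left
  have hZ2 : IsPGroup 2 Z0 := S.2.to_le (hZS.trans (Zs_le S))
  set π := QuotientGroup.mk' Z0 with hπdef
  have hπ : Function.Surjective π := QuotientGroup.mk'_surjective Z0
  have hπ1 : ∀ {x : G}, π x = 1 ↔ x ∈ Z0 := fun {x} => QuotientGroup.eq_one_iff x
  have hOq : Cfsg.oddCore (G ⧸ Z0) = ⊥ := CfsgLib.PrimeInertial.oddCore_quotient hO Z0 hZc hZ2
  let S' : Sylow 2 (G ⧸ Z0) := S.mapSurjective hπ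
  have hcard : ∀ {Q : Subgroup G}, Z0 ≤ Q → Nat.card Q = Nat.card (Q.map π) * Nat.card Z0 := fun {Q} hQ => by
    rw [← relIndex_bot_left Q, ← relIndex_mul_relIndex ⊥ Z0 Q bot_le hQ, relIndex_bot_left, mul_comm]
    congr 1
    have e : Z0.relIndex Q = (π.domRestrict Q).ker.index := by
      rw [MonoidHom.ker_domRestrict, QuotientGroup.ker_mk']; rfl
    rw [e, Subgroup.index_ker, MonoidHom.domRestrict_range]
  have hquo : ∀ {v w : G}, ⁅v, w⁆ ∈ Z0 → π v * π w = π w * π v := fun h =>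
    commutatorElement_eq_one_iff_mul_comm.1 (by rw [← map_commutatorElement, hπ1.2 h])
  obtain ⟨U, hZU, hUS, hU8, hUsq, hUc⟩ := hU
  have hSU : (S : Subgroup G) ≤ normalizer (U : Set G) := fun s hs => by
    refine mem_normalizer_iff_map_conj_eq.2 (Subgroup.eq_of_le_of_card_ge ?_ ?_)
    · rintro _ ⟨v, hv, rfl⟩
      have hc : ⁅(⟨s, hs⟩ : (S : Subgroup G)), ⟨v, hUS hv⟩⁆ ∈ center ↥(S : Subgroup G) := hT.comm_mem _ _
      have h1 : ⁅s, v⁆ ∈ U := hZU ⟨_, hc, rfl⟩
      have : s * v * s⁻¹ = ⁅s, v⁆ * v := by rw [commutatorElement_def]; group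
      show s * v * s⁻¹ ∈ U
      rw [this]
      exact mul_mem h1 hv
    · rw [card_map_of_injective (MulAut.conj s).injective]
  have hPcard : 4 ≤ Nat.card (P.map π) := by
    have := hcard (hZS.trans hZP)
    rw [this] at hP4
    exact Nat.le_of_mul_le_mul_right hP4 Nat.card_pos
  have hUcard : 8 ≤ Nat.card (U.map π) := by
    have := hcard (hZS.trans hZU)
    rw [this] at hU8
    exact Nat.le_of_mul_le_mul_right hU8 Nat.card_pos
  have hS'le : ∀ {Q : Subgroup G}, Q ≤ (S : Subgroup G) → Q.map π ≤ (S' : Subgroup (G ⧸ Z0)) :=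
    fun hQ => map_mono hQ
  have hlift : ∀ t ∈ (S' : Subgroup (G ⧸ Z0)), orderOf t = 2 →
      ∃ v ∈ (S : Subgroup G), π v = t ∧ v * v ∈ Z0 ∧ v ∉ Z0 := by
    rintro _ ⟨v, hv, rfl⟩ ht
    exact ⟨v, hv, rfl, hπ1.1 (by rw [map_mul]; exact CfsgLib.Signalizer.involution_sq ht),
      fun h => CfsgLib.Signalizer.involution_ne_one ht (hπ1.2 h)⟩
  have hS'P : (S' : Subgroup (G ⧸ Z0)) ≤ centralizer (P.map π : Set (G ⧸ Z0)) := by
    rintro _ ⟨s, hs, rfl⟩
    rw [mem_centralizer_iff]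
    rintro _ ⟨p, hp, rfl⟩
    exact (hquo (hPcen s hs p hp)).symm
  have hweak' : ∀ g : G ⧸ Z0, (∀ e ∈ P.map π, g * e * g⁻¹ ∈ (S' : Subgroup (G ⧸ Z0))) →
      ∀ e ∈ P.map π, g * e * g⁻¹ ∈ P.map π := by
    intro g hg
    obtain ⟨g, rfl⟩ := hπ g
    have hgS : ∀ p ∈ P, g * p * g⁻¹ ∈ (S : Subgroup G) := fun p hp => by
      obtain ⟨s, hs, e⟩ : ∃ s ∈ (S : Subgroup G), π s = π (g * p * g⁻¹) := by
        rw [map_mul, map_mul, map_inv]; exact hg _ ⟨p, hp, rfl⟩
      have h1 : s⁻¹ * (g * p * g⁻¹) ∈ Z0 := hπ1.1 (by rw [map_mul, map_inv, e, inv_mul_cancel])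
      have h2 := mul_mem hs ((hZS.trans (Zs_le S)) h1)
      rwa [mul_inv_cancel_left] at h2
    rintro _ ⟨p, hp, rfl⟩
    exact ⟨g * p * g⁻¹, hPweak g hgS p hp, by rw [map_mul, map_mul, map_inv]⟩
  rcases embedded_of_split hOq S' (hS'le hPS) hS'P
    (by rintro _ ⟨p, hp, rfl⟩; rw [← map_mul, hπ1.2 (hPsq p hp)]) hPcard hweak'
    ⟨U.map π, ⟨⟨⟨fun a b => Subtype.ext (by
        obtain ⟨v, hv, ev⟩ := a.2
        obtain ⟨w, hw, ew⟩ := b.2
        show (a : G ⧸ Z0) * b = b * a
        rw [← ev, ← ew]; exact hquo (hUc v hv w hw))⟩⟩,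
      by rintro _ ⟨v, hv, rfl⟩; rw [pow_two, ← map_mul, hπ1.2 (hUsq v hv)]⟩,
      hUcard, hS'le hUS, (map_mono hSU).trans (le_normalizer_map π)⟩
    (fun t ht ht2 => by
      obtain ⟨v, hv, rfl, h1, h2⟩ := hlift t ht ht2
      exact solvable_image hZc v (hloc v hv h1 h2).1)
    (fun t ht ht2 => by
      obtain ⟨v, hv, rfl, h1, h2⟩ := hlift t ht ht2
      exact (split_image hZc v (hloc v hv h1 h2).2).trans
        (sup_le_sup_left (le_normalizer_map π) _))
    with hn' | ⟨M, hM, -⟩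
  · refine Or.inl ?_
    have := hn'.comap π
    rwa [comap_map_eq, QuotientGroup.ker_mk', sup_eq_left.2 (hZS.trans hZP)] at this
  refine Or.inr fun x _ y _ hx hx0 hy hy0 => ?_
  have hord : ∀ {v : G}, v * v ∈ Z0 → v ∉ Z0 → orderOf (π v) = 2 := fun h1 h2 =>
    orderOf_eq_prime (by rw [pow_two, ← map_mul, hπ1.2 h1]) fun e => h2 (hπ1.1 e)
  obtain ⟨g, hg⟩ := isConj_iff.1 (CfsgLib.TwoGroups.SE.isConj_involutions hM (hord hx hx0) (hord hy hy0))
  obtain ⟨g, rfl⟩ := hπ g
  rw [← map_inv, ← map_mul, ← map_mul] at hg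
  have hz : (g * x * g⁻¹)⁻¹ * y ∈ Z0 := hπ1.1 (by rw [map_mul, map_inv, hg, inv_mul_cancel])
  set z := (g * x * g⁻¹)⁻¹ * y with hzdef
  have hy' : y = g * x * g⁻¹ * z := by rw [hzdef, mul_inv_cancel_left]
  have hzc := mem_center_iff.1 (hZc hz)
  rw [hy', show g * x * g⁻¹ * z * (g * x * g⁻¹ * z) = g * x * g⁻¹ * (z * (g * x * g⁻¹)) * z by group,
    ← hzc, show g * x * g⁻¹ * (g * x * g⁻¹ * z) * z = g * (x * x) * g⁻¹ * (z * z) by group,
    ((mem_Zs hT).1 (hZS hz)).2, mul_one, mem_center_iff.1 (hZc hx) g, mul_inv_cancel_right]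

/-- With every involution of `S` central: the local splitting at an element of order four. -/
theorem split_order_four (hall : Zs S ≤ center G) {u : G} (hu : u ∈ (S : Subgroup G)) (hu2 : u * u ≠ 1)
    [(Zs S).Normal] :
    (centralizer ({QuotientGroup.mk' (Zs S) u} : Set (G ⧸ Zs S))).comap (QuotientGroup.mk' (Zs S)) ≤
      oC u ⊔ normalizer ((S : Subgroup G) : Set G) := by
  haveI : Fact (Nat.Prime 2) := ⟨Nat.prime_two⟩
  have hZ2 : IsPGroup 2 (Zs S) := S.2.to_le (Zs_le S)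
  obtain ⟨A₀, hA₀, h4₀⟩ := exists_sylow_centralizer hT hu hu2
  set H := (centralizer ({QuotientGroup.mk' (Zs S) u} : Set (G ⧸ Zs S))).comap (QuotientGroup.mk' (Zs S))
    with hHdef
  have hSH : (S : Subgroup G) ≤ H := fun s hs => mem_comap_centralizer.2
    ⟨_, hT.comm_mem ⟨s, hs⟩ ⟨u, hu⟩, rfl⟩
  have hodd : Odd ((S : Subgroup G).relIndex H) := Nat.not_even_iff_odd.1 fun he =>
    S.not_dvd_index ((even_iff_two_dvd.1 he).trans (relIndex_dvd_index_of_le hSH))
  rw [hHdef, ← comap_eq_sup hall hZ2 u hSH hodd]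
  refine sup_le ?_ (le_normalizer.trans le_sup_right)
  obtain ⟨A, hA⟩ := ((S.2.to_le (inf_le_left : (S : Subgroup G) ⊓ centralizer ({u} : Set G) ≤ S)).comap_of_injective
    (centralizer ({u} : Set G)).subtype (centralizer ({u} : Set G)).subtype_injective).exists_le_sylow
  have h4 : Hom4 ↥(A : Subgroup ↥(centralizer ({u} : Set G))) := h4₀.of_equiv (A.equiv A₀)
  let K := centralizer ({u} : Set G)
  have hZK : Zs S ≤ K := fun z hz => mem_centralizer_singleton_iff.2 (mem_center_iff.1 (hall hz) u).symm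
  have hSKA : (S : Subgroup G) ⊓ K ≤ (A : Subgroup K).map K.subtype :=
    fun x hx => ⟨⟨x, hx.2⟩, hA (show x ∈ (S : Subgroup G) ⊓ K from hx), rfl⟩
  have hAS : (A : Subgroup K).map K.subtype ≤ (S : Subgroup G) := by
    obtain ⟨h, hh, hhS⟩ := exists_conj_mem S hSH
      ((map_subtype_le (A : Subgroup K)).trans (centralizer_le_comap hall u)) (A.2.map K.subtype)
    have hn : h ∈ normalizer (K : Set G) := comap_le_normalizer hall u hh
    have hle : ((A : Subgroup K).map K.subtype).map (MulAut.conj h).toMonoidHom ≤ (S : Subgroup G) ⊓ K := by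
      rintro _ ⟨_, ⟨a, ha, rfl⟩, rfl⟩
      exact ⟨hhS _ ⟨a, ha, rfl⟩, (mem_normalizer_iff.1 hn _).1 a.2⟩
    have heq := Subgroup.eq_of_le_of_card_ge hSKA (by
      rw [← card_map_of_injective (f := (MulAut.conj h).toMonoidHom) (MulAut.conj h).injective]
      exact Subgroup.card_le_of_le hle)
    exact heq ▸ inf_le_left
  -- `N_K(A) = C_K(A)`
  have hNC : normalizer ((A : Subgroup K) : Set K) ≤ centralizer ((A : Subgroup K) : Set K) := by
    intro g hg
    have hinv : ∀ a ∈ (A : Subgroup K), a * a = 1 → ∀ x : K, Commute x a := fun a ha ha2 x => by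
      have haZ : (a : G) ∈ Zs S := inv_mem_Zs hT (A.2.map K.subtype)
        (fun z hz => hSKA ⟨Zs_le S hz, hZK hz⟩) ⟨a, ha, rfl⟩ (congrArg Subtype.val ha2)
      exact Subtype.ext (mem_center_iff.1 (hall haZ) x)
    have hcA : ∀ a b : K, a ∈ (A : Subgroup K) → b ∈ (A : Subgroup K) → a * b = b * a := fun a b ha hb =>
      congrArg Subtype.val (h4.comm ⟨a, ha⟩ ⟨b, hb⟩)
    have h4' : ∀ a ∈ (A : Subgroup K), a * a * (a * a) = 1 := fun a ha => by
      have := congrArg Subtype.val (h4.pow_four ⟨a, ha⟩)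
      simpa [pow_succ, mul_assoc] using this
    have hg2 : ∀ a ∈ (A : Subgroup K), g * g * a * (g * g)⁻¹ = a := fun a ha => by
      set d := g * a * g⁻¹ * a⁻¹ with hd
      have hga : g * a * g⁻¹ ∈ (A : Subgroup K) := (mem_normalizer_iff.1 hg a).1 ha
      have hdA : d ∈ (A : Subgroup K) := mul_mem hga (inv_mem ha)
      have e2 : g * (a * a) * g⁻¹ = a * a := by
        rw [(hinv _ (mul_mem ha ha) (h4' a ha) g).eq, mul_inv_cancel_right]
      have hd2 : d * d = 1 := by
        calc d * d = g * a * g⁻¹ * (a⁻¹ * (g * a * g⁻¹)) * a⁻¹ := by rw [hd]; group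
          _ = g * a * g⁻¹ * (g * a * g⁻¹ * a⁻¹) * a⁻¹ := by rw [hcA _ _ (inv_mem ha) hga]
          _ = g * (a * a) * g⁻¹ * (a * a)⁻¹ := by group
          _ = 1 := by rw [e2, mul_inv_cancel]
      have hdc := (hinv d hdA hd2 g).eq
      have e : g * a * g⁻¹ = d * a := by rw [hd]; group
      calc g * g * a * (g * g)⁻¹ = g * (g * a * g⁻¹) * g⁻¹ := by group
        _ = g * d * a * g⁻¹ := by rw [e]; group
        _ = d * g * a * g⁻¹ := by rw [hdc]
        _ = d * (g * a * g⁻¹) := by group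
        _ = a := by rw [e, ← mul_assoc, hd2, one_mul]
    haveI : ((A : Subgroup K).subgroupOf (normalizer ((A : Subgroup K) : Set K))).Normal :=
      Subgroup.normal_in_normalizer
    set k := ((A : Subgroup K).subgroupOf (normalizer ((A : Subgroup K) : Set K))).index
    have hk : g ^ k ∈ (A : Subgroup K) := mem_subgroupOf.1 (Subgroup.pow_index_mem
      ((A : Subgroup K).subgroupOf (normalizer ((A : Subgroup K) : Set K))) ⟨g, hg⟩)
    obtain ⟨i, hi⟩ : Odd k := Nat.not_even_iff_odd.1 fun he => A.not_dvd_index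
      ((even_iff_two_dvd.1 he).trans
        ⟨_, (Subgroup.relIndex_mul_index (le_normalizer (H := (A : Subgroup K)))).symm⟩)
    have h2 : (g * g) ^ i ∈ centralizer ((A : Subgroup K) : Set K) := pow_mem (mem_centralizer_iff.2
      fun a ha => (mul_inv_eq_iff_eq_mul.1 (hg2 a ha)).symm) i
    have hkc : g ^ k ∈ centralizer ((A : Subgroup K) : Set K) :=
      mem_centralizer_iff.2 fun a ha => hcA a _ ha hk
    have := mul_mem (inv_mem h2) hkc
    rwa [hi, pow_succ, pow_mul, pow_two, inv_mul_cancel_left] at this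
  have hcompl := MonoidHom.ker_transferSylow_isComplement' A hNC
  set R := (MonoidHom.transferSylow A hNC).ker
  have hRodd : Odd (Nat.card R) := by
    rw [← hcompl.index_eq_card]
    exact Nat.not_even_iff_odd.1 fun h => A.not_dvd_index (even_iff_two_dvd.1 h)
  have hR : R ≤ Cfsg.oddCore K := CfsgLib.ZStar.le_oddCore inferInstance hRodd
  calc K = (⊤ : Subgroup K).map K.subtype := by rw [← MonoidHom.range_eq_map, range_subtype]
    _ = R.map K.subtype ⊔ (A : Subgroup K).map K.subtype := by rw [← Subgroup.map_sup, hcompl.sup_eq_top]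
    _ ≤ oC u ⊔ normalizer ((S : Subgroup G) : Set G) :=
      sup_le_sup (map_mono hR) (hAS.trans le_normalizer)

/-- With an involution of `Z(S)` not central: the local splitting. -/
theorem split_not_central (hB : CfsgLib.Bender.BenderGen.{u}) (Z0 : Subgroup G) [Z0.Normal]
    (hZc : Z0 ≤ center G) (hZ2 : IsPGroup 2 Z0)
    (hcl : ∀ u ∈ Zs S, u ∉ Z0 → Closed ↥(centralizer ({u} : Set G)))
    {u : G} (hu : u ∈ (S : Subgroup G)) (hu0 : u ∉ Z0) :
    Group.IsSolvable ↥(centralizer ({u} : Set G)) ∧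
      (centralizer ({QuotientGroup.mk' Z0 u} : Set (G ⧸ Z0))).comap (QuotientGroup.mk' Z0) ≤
        oC u ⊔ normalizer (Zs S : Set G) := by
  haveI : Fact (Nat.Prime 2) := ⟨Nat.prime_two⟩
  by_cases huZ : u ∈ Zs S
  · have hK := hcl u huZ hu0
    refine ⟨solvable_of_closed hK, ?_⟩
    set K := centralizer ({u} : Set G) with hKdef
    have hSK : (S : Subgroup G) ≤ K := fun s hs =>
      mem_centralizer_singleton_iff.2 (mem_centralizer_iff.1 (le_centralizer_Zs S hs) u huZ).symm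
    have hSH := hSK.trans (centralizer_le_comap hZc u)
    have hodd : Odd ((S : Subgroup G).relIndex ((centralizer ({QuotientGroup.mk' Z0 u} :
        Set (G ⧸ Z0))).comap (QuotientGroup.mk' Z0))) := Nat.not_even_iff_odd.1 fun he =>
      S.not_dvd_index ((even_iff_two_dvd.1 he).trans (relIndex_dvd_index_of_le hSH))
    rw [← comap_eq_sup hZc hZ2 u hSH hodd]
    refine sup_le ?_ ((le_normalizer.trans (normalizer_le_Zs hT)).trans le_sup_right)
    refine (split_of_closed hK (S.subtype hSK)).trans (sup_le_sup_left ?_ _)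
    rw [Sylow.coe_subtype, subgroupOf_map_subtype, inf_eq_left.2 hSK]
    exact normalizer_le_Zs hT
  · have hu2 : u * u ≠ 1 := fun e => huZ ((mem_Zs hT).2 ⟨hu, e⟩)
    obtain ⟨A, hA, h4⟩ := exists_sylow_centralizer hT hu hu2
    have hK := closed_of_hom4 hB _ _ rfl A h4
    refine ⟨solvable_of_closed hK, ?_⟩
    let K := centralizer ({u} : Set G)
    set AG := (A : Subgroup ↥(centralizer ({u} : Set G))).map (centralizer ({u} : Set G)).subtype with hAG
    have hN : normalizer (AG : Set G) ≤ normalizer (Zs S : Set G) := fun g hg => by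
      refine mem_normalizer_iff_map_conj_eq.2 (Subgroup.eq_of_le_of_card_ge ?_ ?_)
      · rintro _ ⟨e, he, rfl⟩
        refine inv_mem_Zs hT (A.2.map K.subtype) hA ((mem_normalizer_iff.1 hg e).1 (hA he)) ?_
        show g * e * g⁻¹ * (g * e * g⁻¹) = 1
        rw [show g * e * g⁻¹ * (g * e * g⁻¹) = g * (e * e) * g⁻¹ by group, ((mem_Zs hT).1 he).2,
          mul_one, mul_inv_cancel]
      · rw [card_map_of_injective (MulAut.conj g).injective]
    have hKle : K ≤ oC u ⊔ normalizer (Zs S : Set G) :=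
      (split_of_closed hK A).trans (sup_le_sup_left hN _)
    intro g hg
    have hn : g ∈ normalizer (K : Set G) := comap_le_normalizer hZc u hg
    have hmap : AG.map (MulAut.conj g).toMonoidHom ≤ K := by
      rintro _ ⟨_, ⟨a, -, rfl⟩, rfl⟩
      exact (mem_normalizer_iff.1 hn _).1 a.2
    obtain ⟨k, hk⟩ := CfsgLib.Techniques.exists_conj_le_sylow A
      (((A.2.map K.subtype).map _).comap_of_injective K.subtype K.subtype_injective :
        IsPGroup 2 ((AG.map (MulAut.conj g).toMonoidHom).subgroupOf K))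
    have hkg : (k : G) * g ∈ normalizer (AG : Set G) := by
      refine mem_normalizer_iff_map_conj_eq.2 (Subgroup.eq_of_le_of_card_ge ?_ ?_)
      · rintro _ ⟨e, he, rfl⟩
        refine ⟨_, hk ⟨⟨g * e * g⁻¹, hmap ⟨e, he, rfl⟩⟩, mem_subgroupOf.2 ⟨e, he, rfl⟩, rfl⟩, ?_⟩
        show (k : G) * (g * e * g⁻¹) * (k : G)⁻¹ = k * g * e * (k * g)⁻¹
        group
      · exact (card_map_of_injective (MulAut.conj ((k : G) * g)).injective).ge
    rw [show g = (k : G)⁻¹ * (k * g) by group]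
    exact mul_mem (hKle (inv_mem k.2)) (mem_sup_right (hN hkg))

/-- A central involution makes the Sylow subgroup normal. -/
theorem normal_of_central (hB : CfsgLib.Bender.BenderGen.{u}) (hn : 2 ≤ n) (hO : Cfsg.oddCore G = ⊥)
    {c : G} (hc : c ∈ center G) (hc2 : orderOf c = 2)
    (sub : ∀ K : Subgroup G, K ≠ ⊤ → (S : Subgroup G) ≤ K → c ∈ K → Closed K) :
    (S : Subgroup G).Normal := by
  haveI : Fact (Nat.Prime 2) := ⟨Nat.prime_two⟩
  have hsq : ∀ s ∈ (S : Subgroup G), s * s ∈ Zs S := fun s hs => ⟨_, hT.sq_mem ⟨s, hs⟩, rfl⟩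
  have hcomm : ∀ s ∈ (S : Subgroup G), ∀ v ∈ (S : Subgroup G), ⁅s, v⁆ ∈ Zs S := fun s hs v hv =>
    ⟨_, hT.comm_mem ⟨s, hs⟩ ⟨v, hv⟩, rfl⟩
  have hc1 := CfsgLib.Signalizer.involution_ne_one hc2
  have hcS : c ∈ Zs S := by
    obtain ⟨g, hg⟩ := exists_conj_into_top S (isPGroup_of_involution hc2)
    have := hg c (mem_zpowers c)
    rw [mem_center_iff.1 hc g, mul_inv_cancel_right] at this
    exact (mem_Zs hT).2 ⟨this, CfsgLib.Signalizer.involution_sq hc2⟩
  have h4n : 4 ≤ 2 ^ n := le_trans (by norm_num) (Nat.pow_le_pow_right two_pos hn)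
  by_cases hall : Zs S ≤ center G
  · -- every involution of `S` is central
    haveI : (Zs S).Normal :=
      ⟨fun z hz g => by rw [mem_center_iff.1 (hall hz) g, mul_inv_cancel_right]; exact hz⟩
    have hS8 : 8 * Nat.card (Zs S) ≤ Nat.card (S : Subgroup G) := by
      rw [hT.card, card_Zs hT]
      calc 8 * 2 ^ n ≤ 4 * 4 * 2 ^ n := Nat.mul_le_mul_right _ (by norm_num)
        _ ≤ 2 ^ n * 2 ^ n * 2 ^ n := Nat.mul_le_mul_right _ (Nat.mul_le_mul h4n h4n)
        _ = (2 ^ n) ^ 3 := by ring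
    rcases normal_or_conj hT hn hO (Zs S) (inf_eq_left.2 hall).symm (Zs_le S) le_rfl hsq hcomm
      (le_trans (Nat.mul_le_mul_right _ (by norm_num)) hS8) (fun g hg => hg)
      ⟨_, Zs_le S, le_rfl, hS8, hsq, hcomm⟩
      (fun u hu _ hu0 => by
        have hu2 : u * u ≠ 1 := fun e => hu0 ((mem_Zs hT).2 ⟨hu, e⟩)
        obtain ⟨A, hA, h4⟩ := exists_sylow_centralizer hT hu hu2
        exact ⟨solvable_of_closed (closed_of_hom4 hB _ _ rfl A h4), split_order_four hT hall hu hu2⟩)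
      with h | h
    · exact h
    · exfalso
      obtain ⟨z, hz, hz1, hzc⟩ : ∃ z ∈ Zs S, z ≠ 1 ∧ z ≠ c := by
        by_contra hh
        push Not at hh
        classical
        haveI := Fintype.ofFinite (Zs S)
        have hle := Fintype.card_le_of_surjective
          (fun b : Bool => if b then (⟨c, hcS⟩ : Zs S) else 1) (fun x => by
            by_cases hx : (x : G) = 1
            · exact ⟨false, Subtype.ext hx.symm⟩
            · exact ⟨true, Subtype.ext (hh x x.2 hx).symm⟩)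
        have := card_Zs hT
        rw [Nat.card_eq_fintype_card] at this
        rw [this, Fintype.card_bool] at hle
        omega
      obtain ⟨x, hx, hxx⟩ := exists_root hT (by omega) hz
      obtain ⟨y, hy, hyy⟩ := exists_root hT (by omega) hcS
      have := h x hx y hy (hxx ▸ hz) (fun e => hz1 (hxx ▸ ((mem_Zs hT).1 e).2)) (hyy ▸ hcS)
        (fun e => hc1 (hyy ▸ ((mem_Zs hT).1 e).2))
      exact hzc (hxx ▸ hyy ▸ this)
  · -- some involution of `S` is not central
    set Z0 := Zs S ⊓ center G with hZ0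
    haveI : Z0.Normal := ⟨fun z hz g => by rw [mem_center_iff.1 hz.2 g, mul_inv_cancel_right]; exact hz⟩
    have hZc : Z0 ≤ center G := inf_le_right
    have hZ2 : IsPGroup 2 Z0 := S.2.to_le (inf_le_left.trans (Zs_le S))
    have hcZ : c ∈ Z0 := ⟨hcS, hc⟩
    have hP4 : 4 * Nat.card Z0 ≤ Nat.card (Zs S) := by
      have h1 : Z0.relIndex (Zs S) ≠ 1 := fun e => hall ((relIndex_eq_one.1 e).trans inf_le_right)
      have h2 := relIndex_ne_two hT hO
      rw [← hZ0] at h2
      have hmul : Nat.card Z0 * Z0.relIndex (Zs S) = Nat.card (Zs S) := by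
        rw [← relIndex_bot_left, relIndex_mul_relIndex ⊥ Z0 (Zs S) bot_le inf_le_left, relIndex_bot_left]
      obtain ⟨j, -, hj⟩ := (Nat.dvd_prime_pow Nat.prime_two).1
        (show Z0.relIndex (Zs S) ∣ 2 ^ n from card_Zs hT ▸ ⟨_, by rw [mul_comm]; exact hmul.symm⟩)
      have : 4 ≤ Z0.relIndex (Zs S) := by
        rw [hj] at h1 h2 ⊢
        match j with
        | 0 => simp at h1
        | 1 => simp at h2
        | j + 2 => calc (4 : ℕ) = 2 ^ 2 := by norm_num
                     _ ≤ _ := Nat.pow_le_pow_right two_pos (by omega)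
      calc 4 * Nat.card Z0 ≤ Z0.relIndex (Zs S) * Nat.card Z0 := Nat.mul_le_mul_right _ this
        _ = _ := by rw [mul_comm]; exact hmul
    obtain ⟨x, hx, hxx⟩ := exists_root hT (by omega) hcS
    have hxZ : x ∉ Zs S := fun e => hc1 (hxx ▸ ((mem_Zs hT).1 e).2)
    have hxn : zpowers x ≤ normalizer (Zs S : Set G) :=
      (zpowers_le.2 hx).trans (le_normalizer.trans (normalizer_le_Zs hT))
    have hUmem : ∀ v ∈ zpowers x ⊔ Zs S, ∃ i : ℤ, ∃ z ∈ Zs S, v = x ^ i * z ∧ ∀ j : ℤ,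
        Commute z (x ^ j) := fun v hv => by
      obtain ⟨_, ⟨i, rfl⟩, z, hz, rfl⟩ := (CfsgLib.Core.mem_sup_iff_mul hxn).1 hv
      exact ⟨i, z, hz, rfl, fun j => (show Commute z x from
        mem_centralizer_iff.1 (le_centralizer_Zs S hx) z hz).zpow_right j⟩
    have hZz : ∀ {a b}, a ∈ Zs S → b ∈ Zs S → Commute a b := fun {a b} ha hb =>
      mem_centralizer_iff.1 (le_centralizer_Zs S (Zs_le S hb)) a ha
    have hUsq : ∀ v ∈ zpowers x ⊔ Zs S, v * v ∈ Z0 := fun v hv => by
      obtain ⟨i, z, hz, rfl, hzc⟩ := hUmem v hv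
      rw [(hzc i).mul_mul_mul_comm, ((mem_Zs hT).1 hz).2, mul_one,
        ← ((Commute.refl x).mul_zpow i), hxx]
      exact zpow_mem hcZ i
    have hUc : ∀ v ∈ zpowers x ⊔ Zs S, ∀ w ∈ zpowers x ⊔ Zs S, ⁅v, w⁆ ∈ Z0 := fun v hv w hw => by
      obtain ⟨i, z, hz, rfl, hzc⟩ := hUmem v hv
      obtain ⟨j, z', hz', rfl, hzc'⟩ := hUmem w hw
      have : Commute (x ^ i * z) (x ^ j * z') :=
        ((Commute.zpow_zpow_self x i j).mul_right (hzc' i).symm).mul_left ((hzc j).mul_right (hZz hz hz'))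
      rw [commutatorElement_eq_one_iff_mul_comm.2 this.eq]
      exact one_mem _
    have hU8 : 8 * Nat.card Z0 ≤ Nat.card ↥(zpowers x ⊔ Zs S : Subgroup G) := by
      obtain ⟨d, hd⟩ := Subgroup.card_dvd_of_le (le_sup_right : Zs S ≤ zpowers x ⊔ Zs S)
      have hd2 : 2 ≤ d := by
        rcases d with _ | _ | d
        · simp [Nat.card_pos.ne'] at hd
        · exfalso
          simp only [zero_add, mul_one] at hd
          exact hxZ ((Subgroup.eq_of_le_of_card_ge le_sup_right hd.le).symm ▸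
            mem_sup_left (mem_zpowers x))
        · omega
      calc 8 * Nat.card Z0 = 2 * (4 * Nat.card Z0) := by ring
        _ ≤ d * Nat.card (Zs S) := Nat.mul_le_mul hd2 hP4
        _ = _ := by rw [mul_comm]; exact hd.symm
    have hcl : ∀ u ∈ Zs S, u ∉ Z0 → Closed ↥(centralizer ({u} : Set G)) := fun u hu hu0 =>
      sub _ (fun e => hu0 ⟨hu, mem_center_iff.2 fun g => mem_centralizer_singleton_iff.1 (e ▸ mem_top g)⟩)
        (fun s hs => mem_centralizer_singleton_iff.2
          (mem_centralizer_iff.1 (le_centralizer_Zs S hs) u hu).symm)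
        (mem_centralizer_singleton_iff.2 (mem_center_iff.1 hc u).symm)
    rcases normal_or_conj hT hn hO Z0 hZ0 le_rfl (Zs_le S)
      (fun p hp => by rw [((mem_Zs hT).1 hp).2]; exact one_mem _)
      (fun s hs p hp => by
        rw [commutatorElement_eq_one_iff_mul_comm.2 (mem_centralizer_iff.1 (le_centralizer_Zs S hs) p hp).symm]
        exact one_mem _)
      hP4 (fun g hg => Zs_weak hT hg)
      ⟨_, le_sup_right, sup_le (zpowers_le.2 hx) (Zs_le S), hU8, hUsq, hUc⟩
      (fun u hu _ hu0 => split_not_central hT hB Z0 hZc hZ2 hcl hu hu0)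
      with h | h
    · haveI := h
      refine normal_of_closed_normal hO (centralizer (Zs S : Set G)) S (le_centralizer_Zs S)
        (sub _ (fun e => hall fun z hz => mem_center_iff.2 fun g => ?_) (le_centralizer_Zs S)
          (mem_centralizer_iff.2 fun z _ => mem_center_iff.1 hc z))
      exact (mem_centralizer_iff.1 (e ▸ mem_top g) z hz).symm
    · exfalso
      obtain ⟨a, ha, ha0⟩ : ∃ a ∈ Zs S, a ∉ Z0 := by
        by_contra hh
        push Not at hh
        exact hall fun z hz => (hh z hz).2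
      have ha2 := ((mem_Zs hT).1 ha).2
      have := h a (Zs_le S ha) x hx (ha2 ▸ one_mem _) ha0 (hxx ▸ hcZ) (fun e => hxZ e.1)
      exact hc1 (hxx ▸ this ▸ ha2)

end Main

end CfsgLib.USylow
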