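import Cfsg.Agent.Lib.Signalizer.CoresGenerate
import Cfsg.Agent.Lib.Signalizer.Embedded
import Cfsg.Agent.Lib.Techniques.Basic
import Cfsg.Agent.Lib.Core.PLengthTwoMaximal
import Cfsg.Agent.S0205

/-!
# A strongly embedded subgroup from a central elementary weakly closed subgroup

`O(G) = 1`, a Sylow 2-subgroup `S` centralises the elementary `E ≤ S` of order at least 4, weakly closed
in `S`, some elementary normal subgroup of `S` has order at least 8, every involution centraliser is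
solvable and lies in `O(C(t)) ⊔ N(E)`: then `E` is normal or the cores give a strongly embedded subgroup.
-/

set_option autoImplicit false

namespace CfsgLib.USylow

open Subgroup
open CfsgLib.Classical.TwoType

universe u

variable {G : Type u} [Group G] [Finite G]

/-- Conjugating a 2-subgroup of an overgroup of a Sylow 2-subgroup into it. -/
theorem exists_conj_mem {M : Subgroup G} (S : Sylow 2 G) (hS : (S : Subgroup G) ≤ M) {Q : Subgroup G}
    (hQM : Q ≤ M) (hQ : IsPGroup 2 Q) : ∃ g ∈ M, ∀ x ∈ Q, g * x * g⁻¹ ∈ (S : Subgroup G) := by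
  haveI : Fact (Nat.Prime 2) := ⟨Nat.prime_two⟩
  obtain ⟨g, hg⟩ := CfsgLib.Techniques.exists_conj_le_sylow (S.subtype hS) (H := Q.subgroupOf M)
    (hQ.comap_of_injective _ M.subtype_injective)
  refine ⟨g, g.2, fun x hx => ?_⟩
  have h := hg ⟨⟨x, hQM hx⟩, mem_subgroupOf.2 hx, rfl⟩
  rw [Sylow.coe_subtype, mem_subgroupOf] at h
  exact h

theorem exists_conj_into_top (S : Sylow 2 G) {Q : Subgroup G} (hQ : IsPGroup 2 Q) :
    ∃ g, ∀ x ∈ Q, g * x * g⁻¹ ∈ (S : Subgroup G) := by
  obtain ⟨g, -, hg⟩ := exists_conj_mem S le_top (Q := Q) le_top hQ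
  exact ⟨g, hg⟩

theorem isPGroup_of_involution {t : G} (ht : orderOf t = 2) : IsPGroup 2 (zpowers t) :=
  IsPGroup.of_card (n := 1) (by rw [Nat.card_zpowers, ht, pow_one])

/-- Conjugation as a map of centralisers. -/
theorem solvable_centralizer_conj (g t : G) (h : Group.IsSolvable ↥(centralizer ({g * t * g⁻¹} : Set G))) :
    Group.IsSolvable ↥(centralizer ({t} : Set G)) := by
  have hm : ∀ x : centralizer ({t} : Set G), g * x * g⁻¹ ∈ centralizer ({g * t * g⁻¹} : Set G) := fun x =>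
    mem_centralizer_singleton_iff.2
      (Commute.map (mem_centralizer_singleton_iff.1 x.2 : Commute (x : G) t) (MulAut.conj g).toMonoidHom).eq
  let f : centralizer ({t} : Set G) →* centralizer ({g * t * g⁻¹} : Set G) :=
    ((MulAut.conj g).toMonoidHom.comp (centralizer ({t} : Set G)).subtype).codRestrict _ hm
  have hf : Function.Injective f := fun x y e =>
    Subtype.ext ((MulAut.conj g).injective (congrArg Subtype.val e))
  exact Group.isSolvable_of_isSolvable_injective hf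

theorem not_rankLE_of_card {B E : Subgroup G} (hEB : E ≤ B) (hE : ∀ e ∈ E, e * e = 1)
    (h4 : 4 ≤ Nat.card E) : ¬ Cfsg.PRankLE 2 1 ↥B := fun h => by
  have hsq : ∀ a ∈ E.subgroupOf B, a ^ 2 = 1 := fun a ha =>
    Subtype.ext (by rw [pow_two]; exact hE _ (mem_subgroupOf.1 ha))
  have hinv : ∀ a ∈ E, a⁻¹ = a := fun a ha => inv_eq_of_mul_eq_one_right (hE a ha)
  have hc : IsMulCommutative (E.subgroupOf B) := ⟨⟨fun a b => Subtype.ext (Subtype.ext (by
    show (a.1.1 : G) * b.1.1 = b.1.1 * a.1.1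
    have ha := mem_subgroupOf.1 a.2
    have hb := mem_subgroupOf.1 b.2
    rw [← hinv _ (mul_mem ha hb), mul_inv_rev, hinv _ ha, hinv _ hb]))⟩⟩
  have := h (E.subgroupOf B) hc hsq
  rw [Nat.card_congr (subgroupOfEquivOfLe hEB).toEquiv] at this
  omega

/-- The embedding theorem. -/
theorem embedded_of_split (hO : Cfsg.oddCore G = ⊥) (S : Sylow 2 G) {E : Subgroup G}
    (hES : E ≤ (S : Subgroup G)) (hcen : (S : Subgroup G) ≤ centralizer (E : Set G))
    (hE : ∀ e ∈ E, e * e = 1) (h4 : 4 ≤ Nat.card E)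
    (hweak : ∀ g : G, (∀ e ∈ E, g * e * g⁻¹ ∈ (S : Subgroup G)) → ∀ e ∈ E, g * e * g⁻¹ ∈ E)
    (h8 : ∃ U : Subgroup G, Cfsg.IsElementaryAbelian 2 U ∧ 8 ≤ Nat.card U ∧ U ≤ (S : Subgroup G) ∧
      (S : Subgroup G) ≤ normalizer (U : Set G))
    (hsol : ∀ t ∈ (S : Subgroup G), orderOf t = 2 → Group.IsSolvable ↥(centralizer ({t} : Set G)))
    (hsplit : ∀ t ∈ (S : Subgroup G), orderOf t = 2 →
      centralizer ({t} : Set G) ≤ oC t ⊔ normalizer (E : Set G)) :
    E.Normal ∨ ∃ M : Subgroup G, Cfsg.IsStronglyEmbedded M ∧ (S : Subgroup G) ≤ M := by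
  haveI : Fact (Nat.Prime 2) := ⟨Nat.prime_two⟩
  have hnorm : ∀ g : G, (∀ e ∈ E, g * e * g⁻¹ ∈ (S : Subgroup G)) → g ∈ normalizer (E : Set G) :=
    fun g hg => by
      rw [mem_normalizer_iff_map_conj_eq]
      refine Subgroup.eq_of_le_of_card_ge (by rintro _ ⟨e, he, rfl⟩; exact hweak g hg e he) ?_
      rw [card_map_of_injective (MulAut.conj g).injective]
  have hSN : (S : Subgroup G) ≤ normalizer (E : Set G) := fun s hs =>
    hnorm s fun e he => mul_mem (mul_mem hs (hES he)) (inv_mem hs)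
  have hcon : ∀ b : G, orderOf b = 2 → Cfsg.IsPConstrained 2 ↥(centralizer ({b} : Set G)) := by
    intro b hb
    obtain ⟨g, hg⟩ := exists_conj_into_top S (isPGroup_of_involution hb)
    haveI := solvable_centralizer_conj g b (hsol _ (hg b (mem_zpowers b))
      (by rw [CfsgLib.Signalizer.orderOf_conj, hb]))
    exact CfsgLib.PLocal.isPConstrained_of_isPSolvable ((CfsgLib.Core.isPSolvable_of_isSolvable (by infer_instance)))
  obtain ⟨U, hU, hU8, hUS, hSU⟩ := h8
  obtain ⟨W, hWodd, hW⟩ := CfsgLib.Signalizer.CoresGen.cores_generate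
    (fun X hX => Cfsg.Agent.S0205.result hX) hcon S hU hU8 hUS hSU
  have hEW : normalizer (E : Set G) ≤ normalizer (W : Set G) :=
    (hW E hES (not_rankLE_of_card le_rfl hE h4)).2
  have hoC : ∀ t ∈ (S : Subgroup G), orderOf t = 2 → oC t ≤ W := by
    intro t ht ht2
    have hB : zpowers t ⊔ E ≤ (S : Subgroup G) := sup_le (zpowers_le.2 ht) hES
    rw [(hW _ hB (not_rankLE_of_card le_sup_right hE h4)).1]
    exact le_iSup (fun b : {b : G // b ∈ zpowers t ⊔ E ∧ b ≠ 1} => oC (b : G))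
      ⟨t, mem_sup_left (mem_zpowers t), CfsgLib.Signalizer.involution_ne_one ht2⟩
  by_cases hEn : E.Normal
  · exact Or.inl hEn
  obtain ⟨M, hM, hNM, hcM⟩ : ∃ M : Subgroup G, M ≠ ⊤ ∧ normalizer (E : Set G) ≤ M ∧
      ∀ t ∈ (S : Subgroup G), orderOf t = 2 → centralizer ({t} : Set G) ≤ M := by
    by_cases hW1 : W = ⊥
    · refine ⟨normalizer (E : Set G), fun h => hEn (normalizer_eq_top_iff.1 h), le_rfl,
        fun t ht ht2 => (hsplit t ht ht2).trans (sup_le ?_ le_rfl)⟩
      exact (hoC t ht ht2).trans (hW1 ▸ bot_le)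
    · refine ⟨normalizer (W : Set G), fun h => hW1 (le_bot_iff.1 ?_), hEW,
        fun t ht ht2 => (hsplit t ht ht2).trans (sup_le ((hoC t ht ht2).trans le_normalizer) hEW)⟩
      exact hO ▸ CfsgLib.ZStar.le_oddCore (normalizer_eq_top_iff.1 h) hWodd
  have hSM : (S : Subgroup G) ≤ M := hSN.trans hNM
  refine Or.inr ⟨M, (CfsgLib.Signalizer.stronglyEmbedded_iff_conj M).2 ⟨hM, ?_, ?_⟩, hSM⟩
  · obtain ⟨e, he, he1⟩ : ∃ e ∈ E, e ≠ 1 := by
      by_contra hc
      push Not at hc
      rw [(Subgroup.eq_bot_iff_forall E).2 hc, card_bot] at h4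
      omega
    have := Subgroup.orderOf_dvd_natCard M (hSM (hES he))
    rw [orderOf_eq_prime (by rw [pow_two]; exact hE e he) he1] at this
    exact even_iff_two_dvd.2 this
  intro t htM ht g hg
  -- move both involutions into `S` inside `M`
  obtain ⟨a, ha, haS⟩ := exists_conj_mem S hSM (zpowers_le.2 htM) (isPGroup_of_involution ht)
  obtain ⟨b, hb, hbS⟩ := exists_conj_mem S hSM (zpowers_le.2 hg)
    (isPGroup_of_involution (by rw [CfsgLib.Signalizer.orderOf_conj, ht]))
  set t' := a * t * a⁻¹ with ht'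
  set s := b * (g * t * g⁻¹) * b⁻¹ with hs
  have ht'S : t' ∈ (S : Subgroup G) := haS t (mem_zpowers t)
  have hsS : s ∈ (S : Subgroup G) := hbS _ (mem_zpowers _)
  have hs2 : orderOf s = 2 := by
    rw [hs, CfsgLib.Signalizer.orderOf_conj, CfsgLib.Signalizer.orderOf_conj, ht]
  set k := b * g * a⁻¹ with hk
  have hks : k * t' * k⁻¹ = s := by rw [hk, ht', hs]; group
  set C := centralizer ({s} : Set G) with hC
  have hEp : IsPGroup 2 E := S.2.to_le hES
  have hEC : E ≤ C := fun e he =>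
    mem_centralizer_singleton_iff.2 (mem_centralizer_iff.1 (hcen hsS) e he)
  have hkEC : E.map (MulAut.conj k).toMonoidHom ≤ C := by
    rintro _ ⟨e, he, rfl⟩
    rw [hC, mem_centralizer_singleton_iff, ← hks]
    exact (Commute.map (mem_centralizer_iff.1 (hcen ht'S) e he : Commute e t') (MulAut.conj k).toMonoidHom).eq
  obtain ⟨T, hT⟩ := (hEp.comap_of_injective C.subtype C.subtype_injective).exists_le_sylow
  obtain ⟨u, hu⟩ := CfsgLib.Techniques.exists_conj_le_sylow T
    ((hEp.map _).comap_of_injective C.subtype C.subtype_injective :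
      IsPGroup 2 ((E.map (MulAut.conj k).toMonoidHom).subgroupOf C))
  obtain ⟨h, hh⟩ := exists_conj_into_top S (T.2.map C.subtype)
  have h1 : h ∈ normalizer (E : Set G) :=
    hnorm h fun e he => hh e ⟨⟨e, hEC he⟩, hT (mem_subgroupOf.2 he), rfl⟩
  have h2 : h * u * k ∈ normalizer (E : Set G) := hnorm _ fun e he => by
    rw [show h * (u : G) * k * e * (h * u * k)⁻¹ = h * ((u : G) * (k * e * k⁻¹) * (u : G)⁻¹) * h⁻¹ by group]
    exact hh _ ⟨_, hu ⟨⟨k * e * k⁻¹, hkEC ⟨e, he, rfl⟩⟩, mem_subgroupOf.2 ⟨e, he, rfl⟩, rfl⟩, rfl⟩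
  have huM : (u : G) ∈ M := hcM s hsS hs2 u.2
  have hkM : k ∈ M := by
    have := mul_mem (inv_mem huM) (mul_mem (inv_mem (hNM h1)) (hNM h2))
    rwa [show (u : G)⁻¹ * (h⁻¹ * (h * u * k)) = k by group] at this
  have := mul_mem (mul_mem (inv_mem hb) hkM) ha
  rwa [hk, show b⁻¹ * (b * g * a⁻¹) * a = g by group] at this

end CfsgLib.USylow
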