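import Cfsg.Agent.Lib.Recog.USylow.Closed
import Cfsg.Agent.Lib.Recog.USylow.Structure
import Cfsg.Agent.Lib.Bender.Gen.Structure
import Cfsg.Agent.Lib.Blocks.HomocyclicSylow
import Cfsg.Agent.Lib.Transfer.Abelian

/-!
# Abelian Sylow 2-subgroups of exponent four without direct factor of order two

Such a group is `O(H) N(A)`: induction by transfer, rank one by Burnside, rank two by Brauer's theorem,
rank at least three by the strongly embedded subgroup of `Embed` and `BenderGen`.
-/

set_option autoImplicit false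

namespace CfsgLib.USylow

open Subgroup
open CfsgLib.Classical.TwoType
open scoped commutatorElement

universe u

/-- Abelian, exponent four, and every involution is a square. -/
structure Hom4 (A : Type*) [Group A] : Prop where
  comm : ∀ a b : A, a * b = b * a
  pow_four : ∀ a : A, a ^ 4 = 1
  root : ∀ a : A, a * a = 1 → ∃ b : A, b * b = a

theorem Hom4.of_equiv {A B : Type*} [Group A] [Group B] (h : Hom4 B) (e : A ≃* B) : Hom4 A :=
  ⟨fun a b => e.injective (by rw [map_mul, map_mul, h.comm]),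
    fun a => e.injective (by rw [map_pow, map_one, h.pow_four]),
    fun a ha => by
      obtain ⟨b, hb⟩ := h.root (e a) (by rw [← map_mul, ha, map_one])
      exact ⟨e.symm b, e.injective (by rw [map_mul, e.apply_symm_apply, hb])⟩⟩

/-- Two involutions at most four: homocyclic of rank two. -/
theorem Hom4.exists_equiv {A : Type*} [Group A] [Finite A] (h : Hom4 A)
    (hc : Nat.card {a : A // a * a = 1} = 4) :
    Nonempty (A ≃* Multiplicative (ZMod (2 ^ 2) × ZMod (2 ^ 2))) := by
  classical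
  haveI := Fintype.ofFinite A
  letI : CommGroup A := { (inferInstance : Group A) with mul_comm := h.comm }
  obtain ⟨a₁, ha₁, a₁ne⟩ : ∃ a : A, a * a = 1 ∧ a ≠ 1 := by
    by_contra hh
    push Not at hh
    haveI : Subsingleton {a : A // a * a = 1} :=
      ⟨fun x y => Subtype.ext ((hh x x.2).trans (hh y y.2).symm)⟩
    have := Nat.card_of_subsingleton (⟨1, one_mul 1⟩ : {a : A // a * a = 1})
    omega
  obtain ⟨a₂, ha₂, a₂ne, hne⟩ : ∃ a : A, a * a = 1 ∧ a ≠ 1 ∧ a ≠ a₁ := by
    by_contra hh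
    push Not at hh
    have hle := Fintype.card_le_of_surjective
      (fun b : Bool => if b then (⟨a₁, ha₁⟩ : {a : A // a * a = 1}) else ⟨1, one_mul 1⟩) (fun x => by
        by_cases hx : (x : A) = 1
        · exact ⟨false, Subtype.ext hx.symm⟩
        · exact ⟨true, Subtype.ext (hh x x.2 hx).symm⟩)
    rw [Nat.card_eq_fintype_card] at hc
    rw [hc, Fintype.card_bool] at hle
    omega
  have hall : ∀ x : A, x * x = 1 → x = 1 ∨ x = a₁ ∨ x = a₂ ∨ x = a₁ * a₂ := fun x hx => by
    by_contra hh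
    push Not at hh
    obtain ⟨x1, x2, x3, x4⟩ := hh
    have h12 : a₁ * a₂ * (a₁ * a₂) = 1 := by rw [mul_mul_mul_comm, ha₁, ha₂, one_mul]
    have h12ne : a₁ * a₂ ≠ 1 := fun e => hne (by rw [← inv_eq_of_mul_eq_one_right e, inv_eq_of_mul_eq_one_right ha₁])
    let f : Fin 5 → {a : A // a * a = 1} :=
      ![⟨1, one_mul 1⟩, ⟨a₁, ha₁⟩, ⟨a₂, ha₂⟩, ⟨a₁ * a₂, h12⟩, ⟨x, hx⟩]
    have hf : Function.Injective f := by
      intro i j hij
      have hij' : (f i : A) = f j := congrArg Subtype.val hij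
      have n1 : a₁ ≠ a₁ * a₂ := fun e => a₂ne (mul_eq_left.1 e.symm)
      have n2 : a₂ ≠ a₁ * a₂ := fun e => a₁ne (mul_eq_right.1 e.symm)
      fin_cases i <;> fin_cases j <;>
        first
        | rfl
        | exact absurd (hij' : _ = _) (by assumption)
        | exact absurd (hij' : _ = _).symm (by assumption)
    have := Fintype.card_le_of_injective f hf
    rw [Nat.card_eq_fintype_card] at hc
    simp [hc] at this
  obtain ⟨b₁, hb₁⟩ := h.root a₁ ha₁
  obtain ⟨b₂, hb₂⟩ := h.root a₂ ha₂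
  let φ : Multiplicative (ZMod (2 ^ 2) × ZMod (2 ^ 2)) →* A :=
    { toFun := fun v => b₁ ^ (Multiplicative.toAdd v).1.val * b₂ ^ (Multiplicative.toAdd v).2.val
      map_one' := by simp
      map_mul' := fun v w => by
        have key : ∀ (b : A) (x y : ZMod (2 ^ 2)), b ^ (x + y).val = b ^ x.val * b ^ y.val := fun b x y => by
          rw [ZMod.val_add, ← pow_eq_pow_mod _ (show b ^ 2 ^ 2 = 1 from h.pow_four b), pow_add]
        show b₁ ^ ((Multiplicative.toAdd v).1 + (Multiplicative.toAdd w).1).val *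
          b₂ ^ ((Multiplicative.toAdd v).2 + (Multiplicative.toAdd w).2).val = _
        rw [key, key, mul_mul_mul_comm] }
  have hmk : ∀ i j : ℕ, i < 4 → j < 4 → b₁ ^ i * b₂ ^ j ∈ φ.range := fun i j hi hj =>
    ⟨Multiplicative.ofAdd ((i : ZMod (2 ^ 2)), (j : ZMod (2 ^ 2))), by
      show b₁ ^ ((i : ZMod (2 ^ 2))).val * b₂ ^ ((j : ZMod (2 ^ 2))).val = _
      rw [ZMod.val_natCast_of_lt (by norm_num; omega), ZMod.val_natCast_of_lt (by norm_num; omega)]⟩
  have h1 : b₁ ∈ φ.range := by simpa using hmk 1 0 (by norm_num) (by norm_num)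
  have h2 : b₂ ∈ φ.range := by simpa using hmk 0 1 (by norm_num) (by norm_num)
  have hinv : ∀ x : A, x * x = 1 → x ∈ φ.range := fun x hx => by
    rcases hall x hx with rfl | rfl | rfl | rfl
    · exact one_mem _
    · exact hb₁ ▸ mul_mem h1 h1
    · exact hb₂ ▸ mul_mem h2 h2
    · exact hb₁ ▸ hb₂ ▸ mul_mem (mul_mem h1 h1) (mul_mem h2 h2)
  have hsur : Function.Surjective φ := fun x => by
    have hxx : x * x * (x * x) = 1 := by rw [← pow_two, ← pow_two, ← pow_mul]; exact h.pow_four x
    obtain ⟨y, hy, hyy⟩ : ∃ y ∈ φ.range, y * y = x * x := by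
      rcases hall _ hxx with e | e | e | e <;> rw [e]
      · exact ⟨1, one_mem _, one_mul 1⟩
      · exact ⟨b₁, h1, hb₁⟩
      · exact ⟨b₂, h2, hb₂⟩
      · exact ⟨b₁ * b₂, mul_mem h1 h2, by rw [mul_mul_mul_comm, hb₁, hb₂]⟩
    have := hinv (x * y⁻¹) (by rw [mul_mul_mul_comm, ← hyy, ← mul_inv_rev, mul_inv_cancel])
    have := mul_mem this hy
    rwa [inv_mul_cancel_right] at this
  have hinj : Function.Injective φ := (injective_iff_map_eq_one φ).2 fun v hv => by
    obtain ⟨⟨i, j⟩, rfl⟩ := Multiplicative.ofAdd.surjective v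
    change b₁ ^ i.val * b₂ ^ j.val = 1 at hv
    have hmod : ∀ (b a : A), b * b = a → a * a = 1 → ∀ k : ℕ, (b ^ k) * (b ^ k) = a ^ (k % 2) :=
      fun b a hb ha k => by
        rw [← mul_pow, hb]
        exact pow_eq_pow_mod _ (by rw [pow_two, ha])
    have hsq : (b₁ ^ i.val * b₂ ^ j.val) * (b₁ ^ i.val * b₂ ^ j.val) = 1 := by rw [hv, one_mul]
    rw [mul_mul_mul_comm, hmod _ _ hb₁ ha₁, hmod _ _ hb₂ ha₂] at hsq
    have hp : i.val % 2 = 0 ∧ j.val % 2 = 0 := by
      rcases Nat.mod_two_eq_zero_or_one i.val with e | e <;>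
        rcases Nat.mod_two_eq_zero_or_one j.val with e' | e' <;> rw [e, e'] at hsq <;> simp at hsq
      · exact ⟨e, e'⟩
      · exact absurd hsq a₂ne
      · exact absurd hsq a₁ne
      · exact absurd hsq fun e'' => hne (by
          rw [← inv_eq_of_mul_eq_one_right e'', inv_eq_of_mul_eq_one_right ha₁])
    have h12ne : a₁ * a₂ ≠ 1 := fun e => hne (by
      rw [← inv_eq_of_mul_eq_one_right e, inv_eq_of_mul_eq_one_right ha₁])
    have hi := i.val_lt
    have hj := j.val_lt
    norm_num at hi hj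
    have e1 : i.val = 0 ∨ i.val = 2 := by omega
    have e2 : j.val = 0 ∨ j.val = 2 := by omega
    have hsq1 : b₁ ^ 2 = a₁ := by rw [pow_two, hb₁]
    have hsq2 : b₂ ^ 2 = a₂ := by rw [pow_two, hb₂]
    rcases e1 with e | e <;> rcases e2 with e' | e' <;> rw [e, e'] at hv <;>
      simp only [pow_zero, hsq1, hsq2, one_mul, mul_one] at hv
    · rw [(ZMod.val_eq_zero i).1 e, (ZMod.val_eq_zero j).1 e']; rfl
    · exact absurd hv a₂ne
    · exact absurd hv a₁ne
    · exact absurd hv h12ne
  exact ⟨(MulEquiv.ofBijective φ ⟨hinj, hsur⟩).symm⟩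

/-- A strongly embedded subgroup is impossible with such a Sylow subgroup. -/
theorem no_stronglyEmbedded_hom4 (hB : CfsgLib.Bender.BenderGen.{u}) {H : Type u} [Group H] [Finite H]
    (hO : Cfsg.oddCore H = ⊥) (A : Sylow 2 H) (hA : Hom4 ↥(A : Subgroup H))
    (h4 : ∃ a ∈ (A : Subgroup H), ∃ b ∈ (A : Subgroup H), orderOf a = 2 ∧ orderOf b = 2 ∧ a ≠ b)
    {M : Subgroup H} (hM : Cfsg.IsStronglyEmbedded M) : False := by
  haveI : Fact (Nat.Prime 2) := ⟨Nat.prime_two⟩
  obtain ⟨a, haA, b, hbA, ha, hb, hne⟩ := h4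
  rcases CfsgLib.Bender.structure_of_benderGen hB (CfsgLib.Bender.spe_of_se hM) with h | h
  · exact hne ((h a ha).2 b (mem_centralizer_singleton_iff.2
      (congrArg Subtype.val (hA.comm ⟨b, hbA⟩ ⟨a, haA⟩))) hb).symm
  set π := QuotientGroup.mk' (Cfsg.pPrimeCore 2 H)
  have hπ : Function.Injective π := by
    rw [← MonoidHom.ker_eq_bot_iff, QuotientGroup.ker_mk']
    exact hO
  set L := Cfsg.pElementClosure 2 (⊤ : Subgroup (H ⧸ Cfsg.pPrimeCore 2 H))
  let A' : Sylow 2 (H ⧸ Cfsg.pPrimeCore 2 H) := A.mapSurjective (QuotientGroup.mk'_surjective _)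
  have hA'L : (A' : Subgroup (H ⧸ Cfsg.pPrimeCore 2 H)) ≤ L := fun x hx =>
    Subgroup.subset_closure ⟨mem_top x, by
      obtain ⟨k, hk⟩ := IsPGroup.iff_orderOf.1 A'.2 ⟨x, hx⟩
      exact ⟨k, by rw [← hk, Subgroup.orderOf_mk]⟩⟩
  let T : Sylow 2 L := A'.subtype hA'L
  have hT : Hom4 ↥(T : Subgroup L) :=
    (hA.of_equiv ((A : Subgroup H).equivMapOfInjective π hπ).symm).of_equiv
      (Subgroup.subgroupOfEquivOfLe hA'L)
  obtain ⟨x, hx⟩ : ∃ x : T, x * x ≠ 1 := by
    have haT : π a ∈ (A' : Subgroup (H ⧸ Cfsg.pPrimeCore 2 H)) := ⟨a, haA, rfl⟩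
    obtain ⟨y, hy⟩ := hT.root ⟨⟨π a, hA'L haT⟩, haT⟩ (Subtype.ext (Subtype.ext (by
      show π a * π a = 1
      rw [← map_mul, CfsgLib.Signalizer.involution_sq ha, map_one])))
    refine ⟨y, fun e => CfsgLib.Signalizer.involution_ne_one ha (hπ ?_)⟩
    rw [map_one]
    exact congrArg (fun z : T => ((z : L) : H ⧸ Cfsg.pPrimeCore 2 H)) (hy.symm.trans e)
  rcases h with ⟨F, i1, i2, hchar, -, ⟨e⟩⟩ | ⟨F, i1, i2, q, hq, hq4, hF, ⟨e⟩⟩ | hsz
  · have h4' : (e (x : L)) ^ 4 = 1 := by
      rw [← map_pow, show (x : L) ^ 4 = 1 from congrArg Subtype.val (hT.pow_four x), map_one]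
    have := sl_two_sq_one _ h4'
    rw [← map_mul, ← map_one e, e.injective.eq_iff] at this
    exact hx (Subtype.ext this)
  · obtain ⟨n, rfl⟩ : ∃ n, q = 2 ^ n := by
      obtain ⟨p, k, hp, -, hk⟩ := isPrimePow_nat_iff (Fintype.card F) |>.1 (FiniteField.isPrimePow_card F)
      have h2 : p = 2 := by
        have hd : 2 ∣ p ^ k := by rw [hk, hF]; exact dvd_pow (even_iff_two_dvd.1 hq) two_ne_zero
        exact ((Nat.prime_dvd_prime_iff_eq Nat.prime_two hp).1 (Nat.prime_two.dvd_of_dvd_pow hd)).symm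
      subst h2
      have hd : q ∣ 2 ^ k := by rw [hk, hF]; exact dvd_pow_self q two_ne_zero
      obtain ⟨n, -, hn⟩ := (Nat.dvd_prime_pow Nat.prime_two).1 hd
      exact ⟨n, hn⟩
    have hn : 1 ≤ n := Nat.one_le_iff_ne_zero.2 fun h => by simp [h] at hq4
    let P : Sylow 2 (Cfsg.PSU 3 F (2 ^ n)) := T.mapSurjective (f := e.toMonoidHom) e.surjective
    have hU := (uType_psu hn hF P).of_equiv ((T : Subgroup L).equivMapOfInjective e.toMonoidHom e.injective)
    have htop : Subgroup.center ↥(T : Subgroup L) = ⊤ :=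
      eq_top_iff.2 fun y _ => Subgroup.mem_center_iff.2 fun z => hT.comm z y
    have := hU.card_center
    rw [htop, Subgroup.card_top, hU.card] at this
    have h2 : 1 < 2 ^ n := Nat.one_lt_two_pow (by omega)
    have h3 := Nat.pow_lt_pow_right h2 (show 1 < 3 by norm_num)
    rw [pow_one] at h3
    omega
  · exact CfsgLib.PrimeInertial.not_comm_suzuki hsz T ⟨⟨hT.comm⟩⟩

theorem le_closure_of_hom4_subgroup {H : Type u} [Group H] {A : Subgroup H} (hA : Hom4 ↥A) {a : H}
    (ha : a ∈ A) {b : H} (hb : b ∈ A) : a * b = b * a :=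
  congrArg Subtype.val (hA.comm ⟨a, ha⟩ ⟨b, hb⟩)

/-- The theorem. -/
theorem closed_of_hom4 (hB : CfsgLib.Bender.BenderGen.{u}) :
    ∀ (k : ℕ) (H : Type u) [Group H] [Finite H], Nat.card H = k → ∀ A : Sylow 2 H,
      Hom4 ↥(A : Subgroup H) → Closed H := by
  intro k
  induction k using Nat.strong_induction_on with
  | _ k ih =>
  intro H _ _ hk A hA
  haveI : Fact (Nat.Prime 2) := ⟨Nat.prime_two⟩
  by_cases hO : Cfsg.oddCore H = ⊥
  swap
  · refine closed_of_quotient A ?_
    have hlt : Nat.card (H ⧸ Cfsg.oddCore H) < k := by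
      subst hk
      rw [Subgroup.card_eq_card_quotient_mul_card_subgroup (Cfsg.oddCore H)]
      exact (Nat.lt_mul_iff_one_lt_right Nat.card_pos).2 (Subgroup.one_lt_card_iff_ne_bot _ |>.2 hO)
    set π := QuotientGroup.mk' (Cfsg.oddCore H)
    let A' : Sylow 2 (H ⧸ Cfsg.oddCore H) := A.mapSurjective (QuotientGroup.mk'_surjective _)
    have hinj : Function.Injective (π.comp (A : Subgroup H).subtype) := by
      rw [injective_iff_map_eq_one]
      intro a ha
      obtain ⟨j, hj⟩ := A.2.exists_card_eq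
      have hbot : Cfsg.oddCore H ⊓ (A : Subgroup H) = ⊥ := inf_eq_bot_of_coprime (by
        rw [hj]; exact (CfsgLib.ZStar.odd_card_oddCore H).coprime_two_right.pow_right j)
      have hmem : (a : H) ∈ Cfsg.oddCore H ⊓ (A : Subgroup H) := ⟨(QuotientGroup.eq_one_iff _).1 ha, a.2⟩
      rw [hbot] at hmem
      exact Subtype.ext hmem
    have e : ↥(A' : Subgroup (H ⧸ Cfsg.oddCore H)) ≃* ↥(A : Subgroup H) :=
      ((MonoidHom.ofInjective hinj).trans (MulEquiv.subgroupCongr (by
        rw [MonoidHom.range_comp, Subgroup.range_subtype]; rfl))).symm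
    exact (ih _ hlt _ rfl A' (hA.of_equiv e)).normal_of_core oddCore_quot A'
  -- `O(H) = 1`: the Sylow subgroup is to be normal
  suffices hn : (A : Subgroup H).Normal by
    refine closed_of_normal A ?_
    rw [hO, bot_sup_eq]; exact hn
  haveI hAc : IsMulCommutative ↥(A : Subgroup H) := ⟨⟨hA.comm⟩⟩
  have sub : ∀ K : Subgroup H, K ≠ ⊤ → (A : Subgroup H) ≤ K → Closed K := fun K hK hAK => by
    have hlt : Nat.card K < k := hk ▸ lt_of_le_of_ne (Subgroup.card_le_card_group K)
      fun e => hK (Subgroup.card_eq_iff_eq_top K |>.1 e)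
    exact ih _ hlt _ rfl (A.subtype hAK) (hA.of_equiv (Subgroup.subgroupOfEquivOfLe hAK))
  by_cases hz : ∃ z ∈ Subgroup.center H, orderOf z = 2
  · -- transfer
    obtain ⟨z, hzc, hz2⟩ := hz
    have hzA : z ∈ (A : Subgroup H) := by
      obtain ⟨g, hg⟩ := exists_conj_into_top A (isPGroup_of_involution hz2)
      have := hg z (mem_zpowers z)
      rwa [Subgroup.mem_center_iff.1 hzc g, mul_inv_cancel_right] at this
    have hbot := CfsgLib.Transfer.inf_commutator_inf_center_eq_bot (A : Subgroup H)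
      (A.card_coprime_index)
    set D := _root_.commutator H
    have hD : D ≠ ⊤ := fun e => by
      have : z ∈ (A : Subgroup H) ⊓ D ⊓ Subgroup.center H := ⟨⟨hzA, e ▸ mem_top z⟩, hzc⟩
      rw [hbot] at this
      exact CfsgLib.Signalizer.involution_ne_one hz2 this
    have hlt : Nat.card D < k := hk ▸ lt_of_le_of_ne (Subgroup.card_le_card_group D)
      fun e => hD (Subgroup.card_eq_iff_eq_top D |>.1 e)
    set B := D ⊓ (A : Subgroup H) with hBdef
    obtain ⟨hinter, hsup⟩ := CfsgLib.Transfer.commutator_normalizer_inf_sup A hAc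
    rw [← CfsgLib.Transfer.commutator_inf_eq_commutator_normalizer A hAc, ← hBdef] at hinter hsup
    set C := (A : Subgroup H) ⊓ centralizer
      ((normalizer ((A : Subgroup H) : Set H) : Subgroup H) : Set H)
    obtain ⟨T⟩ := (inferInstance : Nonempty (Sylow 2 D))
    obtain ⟨g, hg⟩ := exists_conj_into_top A (T.2.map D.subtype)
    have hBp : IsPGroup 2 (B.subgroupOf D) :=
      (A.2.to_le inf_le_right).comap_of_injective D.subtype D.subtype_injective
    obtain ⟨T', hT'⟩ := hBp.exists_le_sylow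
    have hcard : Nat.card T' ≤ Nat.card (B.subgroupOf D) := by
      rw [Nat.card_congr (T'.equiv T).toEquiv, Nat.card_congr (Subgroup.subgroupOfEquivOfLe
        (show B ≤ D from inf_le_left)).toEquiv]
      refine Nat.card_le_card_of_injective (fun t => (⟨g * (t.1 : H) * g⁻¹,
        (inferInstance : D.Normal).conj_mem _ t.1.2 g, hg _ ⟨t.1, t.2, rfl⟩⟩ : B)) fun s t e => ?_
      exact Subtype.ext (Subtype.ext ((MulAut.conj g).injective (congrArg Subtype.val e)))
    have heq : B.subgroupOf D = (T' : Subgroup D) := Subgroup.eq_of_le_of_card_ge hT' hcard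
    have hB4 : Hom4 ↥B := by
      refine ⟨fun a b => Subtype.ext (show (a : H) * b = b * a from
          congrArg Subtype.val (hA.comm ⟨a, a.2.2⟩ ⟨b, b.2.2⟩)),
        fun a => Subtype.ext (by simpa using congrArg Subtype.val (hA.pow_four ⟨a, a.2.2⟩)), fun a ha => ?_⟩
      obtain ⟨⟨c, hc⟩, hcc⟩ := hA.root ⟨a, a.2.2⟩ (Subtype.ext (congrArg Subtype.val ha :))
      have hcc' : c * c = (a : H) := congrArg Subtype.val hcc
      have hn : B ≤ normalizer (C : Set H) := fun b hb => centralizer_le_normalizer _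
        (mem_centralizer_iff.2 fun x hx => congrArg Subtype.val (hA.comm ⟨x, hx.1⟩ ⟨b, hb.2⟩))
      have hc' : c ∈ B ⊔ C := hsup.symm ▸ hc
      obtain ⟨c₁, hc₁, c₂, hc₂, rfl⟩ := (CfsgLib.Core.mem_sup_iff_mul hn).1 hc'
      refine ⟨⟨c₁, hc₁⟩, Subtype.ext ?_⟩
      have hcomm : c₂ * c₁ = c₁ * c₂ := congrArg Subtype.val (hA.comm ⟨c₂, hc₂.1⟩ ⟨c₁, hc₁.2⟩)
      have e : c₁ * c₁ * (c₂ * c₂) = a := by
        rw [← hcc', mul_assoc c₁ c₂, ← mul_assoc c₂ c₁ c₂, hcomm]
        group
      have h1 : c₂ * c₂ ∈ B ⊓ C := ⟨by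
        rw [show c₂ * c₂ = (c₁ * c₁)⁻¹ * a by rw [← e]; group]
        exact B.mul_mem (B.inv_mem (B.mul_mem hc₁ hc₁)) a.2, C.mul_mem hc₂ hc₂⟩
      rw [hinter, Subgroup.mem_bot] at h1
      rw [h1, mul_one] at e
      exact e
    have hBT : Hom4 ↥(T' : Subgroup D) := hB4.of_equiv
      ((MulEquiv.subgroupCongr heq.symm).trans (Subgroup.subgroupOfEquivOfLe inf_le_left))
    have hTn := (ih _ hlt _ rfl T' hBT).normal_of_core (oddCore_eq_bot_of_normal hO D) T'
    haveI := T'.characteristic_of_normal hTn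
    haveI hBn : B.Normal := by
      have h2 : ((T' : Subgroup D).map D.subtype).Normal := inferInstance
      rwa [← heq, subgroupOf_map_subtype, inf_eq_left.2 (inf_le_left : B ≤ D)] at h2
    have hAB : (A : Subgroup H) ≤ centralizer (B : Set H) := fun a ha => mem_centralizer_iff.2 fun b hb =>
      congrArg Subtype.val (hA.comm ⟨b, hb.2⟩ ⟨a, ha⟩)
    by_cases hC : centralizer (B : Set H) = ⊤
    · -- `B` is central, hence trivial
      have hB1 : B = ⊥ := by
        refine (Subgroup.eq_bot_iff_forall _).2 fun b hb => ?_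
        have : b ∈ (A : Subgroup H) ⊓ D ⊓ Subgroup.center H := ⟨⟨hb.2, hb.1⟩,
          Subgroup.mem_center_iff.2 fun x => (mem_centralizer_iff.1 (hC ▸ mem_top x) b hb).symm⟩
        rw [hbot] at this
        exact this
      have hTodd : Odd (Nat.card D) := by
        rw [← Nat.not_even_iff_odd]
        intro he
        have h2 : 2 ∣ Nat.card T' := by
          rw [Sylow.card_eq_multiplicity]
          exact dvd_pow_self 2 (Nat.Prime.factorization_pos_of_dvd Nat.prime_two Nat.card_pos.ne'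
            (even_iff_two_dvd.1 he)).ne'
        rw [← heq, Nat.card_congr (Subgroup.subgroupOfEquivOfLe (inf_le_left : B ≤ D)).toEquiv,
          show D ⊓ (A : Subgroup H) = ⊥ from hB1, Subgroup.card_bot] at h2
        omega
      have hD1 : D = ⊥ := le_bot_iff.1 (hO ▸ CfsgLib.ZStar.le_oddCore inferInstance hTodd)
      refine ⟨fun a ha g => ?_⟩
      have : ⁅g, a⁆ ∈ D := Subgroup.commutator_mem_commutator (mem_top g) (mem_top a)
      rw [hD1, Subgroup.mem_bot, commutatorElement_eq_one_iff_mul_comm] at this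
      rwa [this, mul_inv_cancel_right]
    · exact normal_of_closed_normal hO _ A hAB (sub _ hC hAB)
  push Not at hz
  set E : Subgroup H := { carrier := {a | a ∈ (A : Subgroup H) ∧ a * a = 1}
                          one_mem' := ⟨one_mem _, one_mul 1⟩
                          mul_mem' := fun {a b} ha hb => ⟨mul_mem ha.1 hb.1, by
                            rw [mul_assoc, ← mul_assoc b a b, le_closure_of_hom4_subgroup hA hb.1 ha.1,
                              mul_assoc a b b, hb.2, mul_one, ha.2]⟩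
                          inv_mem' := fun {a} ha => ⟨inv_mem ha.1, by
                            rw [← mul_inv_rev, ha.2, inv_one]⟩ } with hEdef
  have hEA : E ≤ (A : Subgroup H) := fun a ha => ha.1
  have hEsq : ∀ a ∈ E, a * a = 1 := fun a ha => ha.2
  by_cases hA1 : (A : Subgroup H) = ⊥
  · rw [hA1]; infer_instance
  by_cases hsmall : Nat.card E ≤ 2
  · -- cyclic: Burnside
    have hcyc : IsCyclic ↥(A : Subgroup H) := by
      by_cases hE1 : E = ⊥
      · refine absurd ((Subgroup.eq_bot_iff_forall _).2 fun a ha => ?_) hA1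
        have h2 : a * a ∈ E := ⟨mul_mem ha ha, by
          have := congrArg Subtype.val (hA.pow_four ⟨a, ha⟩)
          simpa [pow_succ, mul_assoc] using this⟩
        rw [hE1, Subgroup.mem_bot] at h2
        have : a ∈ E := ⟨ha, h2⟩
        rw [hE1, Subgroup.mem_bot] at this
        exact this
      obtain ⟨e, he, he1⟩ := (Subgroup.bot_or_exists_ne_one E).resolve_left hE1
      have hE : ∀ x ∈ E, x = 1 ∨ x = e := fun x hx => by
        by_contra hh
        push Not at hh
        classical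
        haveI := Fintype.ofFinite E
        have h3 : 2 < Fintype.card E := Fintype.two_lt_card_iff.2
          ⟨1, ⟨e, he⟩, ⟨x, hx⟩, fun h => he1 (congrArg Subtype.val h).symm,
            fun h => hh.1 (congrArg Subtype.val h).symm, fun h => hh.2 (congrArg Subtype.val h).symm⟩
        rw [Nat.card_eq_fintype_card] at hsmall
        omega
      obtain ⟨⟨b, hbA⟩, hb⟩ := hA.root ⟨e, hEA he⟩ (Subtype.ext (hEsq e he))
      have hb' : b * b = e := congrArg Subtype.val hb
      refine ⟨⟨⟨b, hbA⟩, fun x => ?_⟩⟩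
      obtain ⟨x, hx⟩ := x
      have hb1 : (⟨b, hbA⟩ : (A : Subgroup H)) ∈ zpowers (⟨b, hbA⟩ : (A : Subgroup H)) := mem_zpowers _
      have hxx : x * x ∈ E := ⟨mul_mem hx hx, by
        have := congrArg Subtype.val (hA.pow_four ⟨x, hx⟩)
        simpa [pow_succ, mul_assoc] using this⟩
      rcases hE _ hxx with h | h
      · rcases hE x ⟨hx, h⟩ with h' | h'
        · subst h'; exact one_mem (zpowers _)
        · rw [show (⟨x, hx⟩ : (A : Subgroup H)) = ⟨b, hbA⟩ * ⟨b, hbA⟩ from Subtype.ext (h'.trans hb'.symm)]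
          exact mul_mem hb1 hb1
      · have hy : x * b⁻¹ ∈ E := ⟨mul_mem hx (inv_mem hbA), by
          rw [mul_assoc, ← mul_assoc b⁻¹, le_closure_of_hom4_subgroup hA (inv_mem hbA) hx, mul_assoc x b⁻¹,
            ← mul_assoc x x, h, ← mul_inv_rev, hb', mul_inv_cancel]⟩
        rcases hE _ hy with h' | h'
        · rw [show (⟨x, hx⟩ : (A : Subgroup H)) = ⟨b, hbA⟩ from Subtype.ext (mul_inv_eq_one.1 h')]
          exact hb1
        · rw [show (⟨x, hx⟩ : (A : Subgroup H)) = ⟨b, hbA⟩ * ⟨b, hbA⟩ * ⟨b, hbA⟩ from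
            Subtype.ext (by rw [Subgroup.coe_mul, Subgroup.coe_mul, hb']; exact mul_inv_eq_iff_eq_mul.1 h')]
          exact mul_mem (mul_mem hb1 hb1) hb1
    have hmin : (Nat.card H).minFac = 2 := by
      rw [Nat.minFac_eq_two_iff]
      obtain ⟨a, ha, ha1⟩ := (Subgroup.bot_or_exists_ne_one _).resolve_left hA1
      obtain ⟨j, hj⟩ := IsPGroup.iff_orderOf.1 A.2 ⟨a, ha⟩
      have hd := Subgroup.orderOf_dvd_natCard (A : Subgroup H) ha
      rw [← Subgroup.orderOf_mk a ha, hj] at hd
      have : j ≠ 0 := by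
        rintro rfl
        rw [pow_zero, Subgroup.orderOf_mk, orderOf_eq_one_iff] at hj
        exact ha1 hj
      exact ((dvd_pow_self 2 this).trans hd).trans (Subgroup.card_subgroup_dvd_card _)
    have hNC := IsCyclic.normalizer_le_centralizer hmin hcyc
    have hcompl := MonoidHom.ker_transferSylow_isComplement' A hNC
    set K := (MonoidHom.transferSylow A hNC).ker
    have hKodd : Odd (Nat.card K) := by
      rw [← hcompl.index_eq_card]
      exact Nat.not_even_iff_odd.1 fun h => A.not_dvd_index (even_iff_two_dvd.1 h)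
    have hK : K = ⊥ := le_bot_iff.1 (hO ▸ CfsgLib.ZStar.le_oddCore inferInstance hKodd)
    rw [hK] at hcompl
    rw [Subgroup.isComplement'_bot_left.1 hcompl]
    infer_instance
  by_cases h4 : Nat.card E = 4
  · -- rank two: Brauer
    obtain ⟨e⟩ := hA.exists_equiv (by
      rw [← h4]
      exact Nat.card_congr
        { toFun := fun a => ⟨a.1.1, a.1.2, congrArg Subtype.val a.2⟩
          invFun := fun a => ⟨⟨a.1, a.2.1⟩, Subtype.ext a.2.2⟩
          left_inv := fun _ => rfl
          right_inv := fun _ => rfl })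
    exact (CfsgLib.Homocyclic.normal_of_homocyclic A 2 le_rfl e
      fun N hN hodd => le_bot_iff.1 (hO ▸ CfsgLib.ZStar.le_oddCore hN hodd)).1
  -- rank at least three
  have hEp : IsPGroup 2 E := A.2.to_le hEA
  obtain ⟨j, hj⟩ := hEp.exists_card_eq
  have h8 : 8 ≤ Nat.card E := by
    rw [hj] at hsmall h4 ⊢
    match j, hsmall, h4 with
    | 0, h, _ => norm_num at h
    | 1, h, _ => norm_num at h
    | 2, _, h => norm_num at h
    | j + 3, _, _ => exact Nat.pow_le_pow_right two_pos (by omega : 3 ≤ j + 3)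
  have hEel : Cfsg.IsElementaryAbelian 2 E := ⟨⟨⟨fun a b => Subtype.ext
    (le_closure_of_hom4_subgroup hA (hEA a.2) (hEA b.2))⟩⟩, fun a ha => by rw [pow_two]; exact hEsq a ha⟩
  have hAE : (A : Subgroup H) ≤ centralizer (E : Set H) := fun a ha =>
    mem_centralizer_iff.2 fun e he => le_closure_of_hom4_subgroup hA (hEA he) ha
  have hcl : ∀ t ∈ (A : Subgroup H), orderOf t = 2 →
      (A : Subgroup H) ≤ centralizer ({t} : Set H) ∧ Closed ↥(centralizer ({t} : Set H)) := by
    intro t ht ht2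
    have hle : (A : Subgroup H) ≤ centralizer ({t} : Set H) := fun a ha =>
      mem_centralizer_singleton_iff.2 (le_closure_of_hom4_subgroup hA ha ht)
    refine ⟨hle, sub _ (fun e => hz t (Subgroup.mem_center_iff.2 fun g => ?_) ht2) hle⟩
    exact mem_centralizer_singleton_iff.1 (e ▸ mem_top g)
  have hwk : ∀ g : H, (∀ e ∈ E, g * e * g⁻¹ ∈ (A : Subgroup H)) → ∀ e ∈ E, g * e * g⁻¹ ∈ E :=
    fun g hg e he => ⟨hg e he, by
      rw [show g * e * g⁻¹ * (g * e * g⁻¹) = g * (e * e) * g⁻¹ by group, hEsq e he, mul_one,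
        mul_inv_cancel]⟩
  rcases embedded_of_split hO A hEA hAE hEsq (by omega) hwk
    ⟨E, hEel, h8, hEA, hAE.trans (centralizer_le_normalizer _)⟩
    (fun t ht ht2 => solvable_of_closed (hcl t ht ht2).2)
    (fun t ht ht2 => by
      obtain ⟨hle, hc⟩ := hcl t ht ht2
      refine (split_of_closed hc (A.subtype hle)).trans (sup_le_sup_left ?_ _)
      rw [Sylow.coe_subtype, subgroupOf_map_subtype, inf_eq_left.2 hle]
      intro g hg
      rw [mem_normalizer_iff]
      intro e
      refine ⟨fun he => ⟨(mem_normalizer_iff.1 hg e).1 he.1, ?_⟩, fun he => ⟨(mem_normalizer_iff.1 hg e).2 he.1, ?_⟩⟩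
      · rw [show g * e * g⁻¹ * (g * e * g⁻¹) = g * (e * e) * g⁻¹ by group, he.2, mul_one, mul_inv_cancel]
      · have h := he.2
        rw [show g * e * g⁻¹ * (g * e * g⁻¹) = g * (e * e) * g⁻¹ by group, conj_eq_one_iff] at h
        exact h)
    with hEn | ⟨M, hM, -⟩
  · haveI := hEn
    by_cases hC : centralizer (E : Set H) = ⊤
    · obtain ⟨e, he, he1⟩ := (Subgroup.bot_or_exists_ne_one E).resolve_left (fun e => by
        rw [e, Subgroup.card_bot] at h8; omega)
      exact absurd (orderOf_eq_prime (by rw [pow_two]; exact hEsq e he) he1)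
        (hz e (Subgroup.mem_center_iff.2 fun g => (mem_centralizer_iff.1 (hC ▸ mem_top g) e he).symm))
    · exact normal_of_closed_normal hO _ A hAE (sub _ hC hAE)
  · obtain ⟨a, ha, ha1⟩ := (Subgroup.bot_or_exists_ne_one E).resolve_left (fun e => by
      rw [e, Subgroup.card_bot] at h8; omega)
    obtain ⟨b, hb, hb1, hba⟩ : ∃ b ∈ E, b ≠ 1 ∧ b ≠ a := by
      by_contra hh
      push Not at hh
      classical
      haveI := Fintype.ofFinite E
      have hle := Fintype.card_le_of_surjective (fun b : Bool => if b then (⟨a, ha⟩ : E) else 1) fun x => by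
        by_cases hx : (x : H) = 1
        · exact ⟨false, Subtype.ext hx.symm⟩
        · exact ⟨true, Subtype.ext (hh x x.2 hx).symm⟩
      rw [Fintype.card_bool, ← Nat.card_eq_fintype_card] at hle
      omega
    exact (no_stronglyEmbedded_hom4 hB hO A hA ⟨a, hEA ha, b, hEA hb,
      orderOf_eq_prime (by rw [pow_two]; exact hEsq a ha) ha1,
      orderOf_eq_prime (by rw [pow_two]; exact hEsq b hb) hb1, hba.symm⟩ hM).elim

end CfsgLib.USylow
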